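import Mathlib

/-!
Roots of a quadratic `X² - uX + 1` whose middle coefficient is fixed by `x ↦ x^q`, and the
binomials it divides.
-/

set_option autoImplicit false

namespace Cfsg.Agent.IsoSpecS4

open Polynomial

variable {L : Type*} [Field L]

/-- The bounds on element orders of `PSp₄(q)`. -/
def eExp (p : ℕ) : ℕ := if p = 2 then 4 else if p = 3 then 9 else p

/-- The spectrum of `PSp₄(q)`. -/
def spec (p q : ℕ) : Set ℕ :=
  {n | n ∣ (q ^ 2 - 1) / Nat.gcd 2 (q - 1) ∨ n ∣ (q ^ 2 + 1) / Nat.gcd 2 (q - 1) ∨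
    n ∣ p * (q - 1) ∨ n ∣ p * (q + 1) ∨ n ∣ eExp p}

theorem mem_spec_of_dvd {p q n m : ℕ} (h : n ∣ m) (hm : m ∈ spec p q) : n ∈ spec p q := by
  rcases hm with h' | h' | h' | h' | h'
  exacts [Or.inl (h.trans h'), Or.inr (Or.inl (h.trans h')), Or.inr (Or.inr (Or.inl (h.trans h'))),
    Or.inr (Or.inr (Or.inr (Or.inl (h.trans h')))), Or.inr (Or.inr (Or.inr (Or.inr (h.trans h'))))]

theorem gcd_two_sq {q : ℕ} (hq : 1 ≤ q) : Nat.gcd 2 (q ^ 2 - 1) = Nat.gcd 2 (q - 1) := by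
  rcases Nat.even_or_odd q with ⟨j, hj⟩ | ⟨j, hj⟩
  · have e : ∀ n, n % 2 = 1 → Nat.gcd 2 n = 1 := fun n hn =>
      (Nat.prime_two.coprime_iff_not_dvd.2 (by omega))
    rw [e, e]
    · omega
    · have : q ^ 2 = 2 * (2 * (j * j)) := by subst hj; ring
      have : 1 ≤ q ^ 2 := Nat.one_le_pow _ _ hq
      omega
  · have : q ^ 2 = 2 * (2 * j * j + 2 * j) + 1 := by subst hj; ring
    rw [Nat.gcd_eq_left (by omega), Nat.gcd_eq_left (by omega)]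

theorem quad_dvd {l u c : L} {M : ℕ} (hl : l ≠ 0) (hu : u = l + l⁻¹) (hne : l ≠ l⁻¹)
    (h1 : l ^ M = c) (h2 : (l⁻¹) ^ M = c) : (X ^ 2 - C u * X + 1 : L[X]) ∣ X ^ M - C c := by
  have e : (X ^ 2 - C u * X + 1 : L[X]) = (X - C l) * (X - C l⁻¹) := by
    have : C l * C l⁻¹ = (1 : L[X]) := by rw [← C_mul, mul_inv_cancel₀ hl, C_1]
    rw [hu, C_add]; linear_combination -this
  rw [e]
  refine (isCoprime_X_sub_C_of_isUnit_sub (isUnit_iff_ne_zero.2 (sub_ne_zero.2 hne))).mul_dvd ?_ ?_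
  · exact dvd_iff_isRoot.2 (by simp [IsRoot, h1])
  · exact dvd_iff_isRoot.2 (by simp [IsRoot, ← h2])

theorem exists_root_quad [IsAlgClosed L] (u : L) : ∃ l : L, l ≠ 0 ∧ u = l + l⁻¹ := by
  obtain ⟨l, hl⟩ := IsAlgClosed.exists_root (X ^ 2 - C u * X + 1 : L[X]) (by
    rw [show (X ^ 2 - C u * X + 1 : L[X]).degree = 2 by compute_degree!]; norm_num)
  have e : l ^ 2 - u * l + 1 = 0 := by simpa [IsRoot] using hl
  have h0 : l ≠ 0 := fun h => by subst h; simp at e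
  refine ⟨l, h0, ?_⟩
  field_simp
  linear_combination -e

theorem ne_inv_of_sq {l u : L} (hl : l ≠ 0) (hu : u = l + l⁻¹) (h4 : u * u ≠ 4) : l ≠ l⁻¹ := by
  intro h
  apply h4
  have : l * l = 1 := by
    calc l * l = l * l⁻¹ := by rw [← h]
      _ = 1 := mul_inv_cancel₀ hl
  rw [hu, ← h]; linear_combination 4 * this

theorem eq_or_inv {l m : L} (hl : l ≠ 0) (hm : m ≠ 0) (h : l + l⁻¹ = m + m⁻¹) : l = m ∨ l = m⁻¹ := by
  field_simp at h
  have : (l - m) * (l * m - 1) = 0 := by linear_combination h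
  rcases mul_eq_zero.1 this with h1 | h1
  · exact Or.inl (sub_eq_zero.1 h1)
  · right; field_simp; linear_combination h1

section

variable {p : ℕ} [Fact p.Prime] [CharP L p] {k : ℕ}

theorem frob_sum {l u : L} (hu : u = l + l⁻¹) :
    u ^ p ^ k = l ^ p ^ k + (l ^ p ^ k)⁻¹ := by
  rw [hu, add_pow_char_pow, inv_pow]

/-- A fixed middle coefficient puts the roots in the norm-one or split torus. -/
theorem pow_pm {l u : L} (hl : l ≠ 0) (hu : u = l + l⁻¹) (hfix : u ^ p ^ k = u) :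
    l ^ (p ^ k - 1) = 1 ∨ l ^ (p ^ k + 1) = 1 := by
  have h : l ^ p ^ k + (l ^ p ^ k)⁻¹ = l + l⁻¹ := by rw [← frob_sum hu, hfix, hu]
  rcases eq_or_inv (pow_ne_zero _ hl) hl h with h1 | h1
  · left
    apply mul_right_cancel₀ hl
    rw [one_mul, ← pow_succ, Nat.sub_add_cancel (Nat.one_le_pow _ _ (Fact.out : p.Prime).pos), h1]
  · right
    rw [pow_succ, h1, inv_mul_cancel₀ hl]

end

theorem half_cases {l : L} {N : ℕ} (h : l ^ (2 * N) = 1) :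
    ∃ c : L, c * c = 1 ∧ l ^ N = c ∧ (l⁻¹) ^ N = c := by
  have hc : l ^ N * l ^ N = 1 := by rw [← pow_add, ← two_mul, h]
  exact ⟨l ^ N, hc, rfl, by rw [inv_pow]; exact inv_eq_of_mul_eq_one_left hc⟩

theorem two_mul_half {q : ℕ} (hq : 1 ≤ q) : Nat.gcd 2 (q - 1) = 1 ∨ (q % 2 = 1 ∧ Nat.gcd 2 (q - 1) = 2) := by
  rcases Nat.even_or_odd q with ⟨j, hj⟩ | ⟨j, hj⟩
  · left; exact (Nat.prime_two.coprime_iff_not_dvd.2 (by omega))
  · right; exact ⟨by omega, Nat.gcd_eq_left (by omega)⟩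

/-- `l^(M/d) = l^(-M/d) = ±1` once `l^M = 1`. -/
theorem quot_cases {l : L} {M d : ℕ} (hd : d = 1 ∨ (d = 2 ∧ 2 ∣ M)) (h : l ^ M = 1) :
    ∃ c : L, c * c = 1 ∧ l ^ (M / d) = c ∧ (l⁻¹) ^ (M / d) = c := by
  rcases hd with rfl | ⟨rfl, hM⟩
  · exact ⟨1, one_mul 1, by rw [Nat.div_one, h], by rw [Nat.div_one, inv_pow, h, inv_one]⟩
  · obtain ⟨j, rfl⟩ := hM
    rw [Nat.mul_div_cancel_left j two_pos]
    exact half_cases h

theorem quot_hyp {q : ℕ} (hq : 1 ≤ q) {M : ℕ} (hM : q % 2 = 1 → 2 ∣ M) :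
    Nat.gcd 2 (q - 1) = 1 ∨ (Nat.gcd 2 (q - 1) = 2 ∧ 2 ∣ M) := by
  rcases two_mul_half hq with h | ⟨h1, h2⟩
  exacts [Or.inl h, Or.inr ⟨h2, hM h1⟩]

end Cfsg.Agent.IsoSpecS4
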