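import Cfsg.Prelude
import Cfsg.Agent.SpecU42.Spectrum
import Cfsg.Agent.IsoSpecS4.Quad

/-!
Every element order of `PSp₄(q)` lies in the spectrum.
-/

set_option autoImplicit false

namespace Cfsg.Agent.IsoSpecS4

open Polynomial

section Closed

variable {L : Type*} [Field L] [IsAlgClosed L] (p : ℕ) [Fact p.Prime] [CharP L p] (k : ℕ)

theorem eExp_prime_pow : ∃ j, eExp p = p ^ j ∧ 4 ≤ p ^ j := by
  unfold eExp
  have hp := (Fact.out : p.Prime)
  split_ifs with h2 h3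
  · exact ⟨2, by subst h2; norm_num⟩
  · exact ⟨2, by subst h3; norm_num⟩
  · refine ⟨1, (pow_one p).symm, ?_⟩
    have := hp.two_le
    rw [pow_one]; omega

theorem eExp_odd (h : p ≠ 2) : Odd (eExp p) := by
  unfold eExp
  rw [if_neg h]
  split_ifs
  · exact ⟨4, rfl⟩
  · exact (Fact.out : p.Prime).odd_of_ne_two h

theorem neg_one_pow_eExp : (-1 : L) ^ eExp p = -1 := by
  by_cases h : p = 2
  · subst h
    haveI : CharP L 2 := ‹CharP L 2›
    rw [CharTwo.neg_eq, one_pow]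
  · exact (eExp_odd p h).neg_one_pow

omit [IsAlgClosed L] in
theorem isCoprime_of_quad {s v : L} (h : s - v ≠ 0) :
    IsCoprime (X ^ 2 - C s * X + 1 : L[X]) (X ^ 2 - C v * X + 1) := by
  refine ⟨1 + C (s - v)⁻¹ * (X - C s), -(C (s - v)⁻¹ * (X - C s)), ?_⟩
  have e : C (s - v)⁻¹ * (C s - C v) = (1 : L[X]) := by rw [← C_sub, ← C_mul, inv_mul_cancel₀ h, C_1]
  linear_combination (-(X * (X - C s))) * e

omit [IsAlgClosed L] in
theorem neg_one_pow_q : (-1 : L) ^ p ^ k = -1 := by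
  have := map_neg (iterateFrobenius L p k) 1
  rwa [iterateFrobenius_def, map_one] at this

theorem palindromic_dvd (a b : L) (ha : a ^ p ^ k = a) (hb : b ^ p ^ k = b) :
    ∃ M c, M ∈ spec p (p ^ k) ∧ c * c = (1 : L) ∧
      (X ^ 4 + C a * X ^ 3 + C b * X ^ 2 + C a * X + 1 : L[X]) ∣ X ^ M - C c := by
  classical
  have hp := (Fact.out : p.Prime)
  set q := p ^ k with hq
  have hq1 : 1 ≤ q := Nat.one_le_pow _ _ hp.pos
  obtain ⟨s, hs⟩ := IsAlgClosed.exists_root (X ^ 2 + C a * X + C (b - 2) : L[X]) (by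
    rw [show (X ^ 2 + C a * X + C (b - 2) : L[X]).degree = 2 by compute_degree!]; norm_num)
  have hu : s ^ 2 + a * s + (b - 2) = 0 := by simpa [IsRoot] using hs
  set v := -a - s with hv
  have hP : (X ^ 4 + C a * X ^ 3 + C b * X ^ 2 + C a * X + 1 : L[X]) =
      (X ^ 2 - C s * X + 1) * (X ^ 2 - C v * X + 1) := by
    have e1 : C a = -(C s + C v) := by rw [← C_add, ← C_neg, hv]; congr 1; ring
    have e2 : C b = C s * C v + 2 := by
      rw [← C_mul, show (2 : L[X]) = C 2 from (map_ofNat C 2).symm, ← C_add]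
      congr 1
      rw [hv]; linear_combination hu
    rw [e1, e2]; ring
  rw [hP]
  have h2q : (2 : L) ^ q = 2 := by
    have := map_ofNat (iterateFrobenius L p k) 2
    rwa [iterateFrobenius_def] at this
  obtain ⟨l, hl, hsl⟩ := exists_root_quad s
  obtain ⟨m, hm, hvm⟩ := exists_root_quad v
  have hperm : s ^ q = s ∨ s ^ q = v := by
    have h0 := congrArg (iterateFrobenius L p k) hu
    simp only [map_add, map_mul, map_sub, map_pow, map_zero, iterateFrobenius_def, ← hq, ha, hb, h2q] at h0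
    have h : (s ^ q - s) * (s ^ q - v) = 0 := by rw [hv]; linear_combination h0 - hu
    rcases mul_eq_zero.1 h with h1 | h1
    exacts [Or.inl (sub_eq_zero.1 h1), Or.inr (sub_eq_zero.1 h1)]
  have hvfix : v ^ q = -a - s ^ q := by
    have := map_sub (iterateFrobenius L p k) (-a) s
    simp only [map_neg, iterateFrobenius_def, ← hq, ha] at this
    rw [hv]; exact this
  have h22 : ∀ M, (2 * M) / 2 = M := fun M => by omega
  -- repeated roots
  have hrep : ∀ N, (N = q - 1 ∨ N = q + 1) →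
      ((X ^ 2 - C s * X + 1) * (X ^ 2 - C v * X + 1) : L[X]) ∣ (X ^ N - 1) ^ 2 →
      ∃ M c, M ∈ spec p q ∧ c * c = (1 : L) ∧
        ((X ^ 2 - C s * X + 1) * (X ^ 2 - C v * X + 1) : L[X]) ∣ X ^ M - C c := by
    intro N hN hdvd
    refine ⟨p * N, 1, ?_, one_mul 1, ?_⟩
    · rcases hN with rfl | rfl
      exacts [Or.inr (Or.inr (Or.inl dvd_rfl)), Or.inr (Or.inr (Or.inr (Or.inl dvd_rfl)))]
    · have e : (X ^ (p * N) - C 1 : L[X]) = (X ^ N - 1) ^ p := by
        rw [sub_pow_char, one_pow, ← pow_mul, mul_comm, C_1]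
      rw [e]
      exact hdvd.trans (pow_dvd_pow _ hp.two_le)
  have hsq : ∀ x : L, x * x = 4 → ∃ ε : L, ε * ε = 1 ∧ x = 2 * ε ∧
      (X ^ 2 - C x * X + 1 : L[X]) = (X - C ε) ^ 2 := by
    intro x hx
    obtain ⟨ε, hε, e⟩ : ∃ ε : L, ε * ε = 1 ∧ x = 2 * ε := by
      rcases mul_self_eq_mul_self_iff.1 (show x * x = 2 * 2 by linear_combination hx) with h | h
      exacts [⟨1, one_mul 1, by linear_combination h⟩, ⟨-1, by ring, by linear_combination h⟩]
    refine ⟨ε, hε, e, ?_⟩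
    have : C ε * C ε = (1 : L[X]) := by rw [← C_mul, hε, C_1]
    rw [e, C_mul, map_ofNat]; linear_combination -this
  have hεN : ∀ ε : L, ε * ε = 1 → ∀ N, (N = q - 1 ∨ N = q + 1) → ε ^ N = 1 := by
    intro ε hε N hN
    rcases Nat.even_or_odd N with ⟨j, rfl⟩ | hodd
    · rw [← two_mul, pow_mul, pow_two, hε, one_pow]
    · have hp2 : p = 2 := by
        by_contra hne
        have : Odd q := (hp.odd_of_ne_two hne).pow
        obtain ⟨i, hi⟩ := this; obtain ⟨j, hj⟩ := hodd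
        omega
      subst hp2
      rcases mul_self_eq_one_iff.1 hε with rfl | rfl
      · exact one_pow _
      · rw [CharTwo.neg_eq, one_pow]
  have hsingle : ∀ x y : L, x * x = 4 → y * y ≠ 4 → x ≠ y → y ^ q = y →
      ∃ N, (N = q - 1 ∨ N = q + 1) ∧
        ((X ^ 2 - C x * X + 1) * (X ^ 2 - C y * X + 1) : L[X]) ∣ (X ^ N - 1) ^ 2 := by
    intro x y hx hy hxy hfy
    obtain ⟨ε, hε, hxε, he⟩ := hsq x hx
    obtain ⟨w, hw, hyw⟩ := exists_root_quad y
    obtain ⟨N, hN, hwN⟩ : ∃ N, (N = q - 1 ∨ N = q + 1) ∧ w ^ N = 1 := by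
      rcases pow_pm (p := p) (k := k) hw hyw hfy with h | h
      exacts [⟨_, Or.inl rfl, h⟩, ⟨_, Or.inr rfl, h⟩]
    refine ⟨N, hN, ?_⟩
    have d1 : (X - C ε : L[X]) ∣ X ^ N - 1 := dvd_iff_isRoot.2 (by simp [IsRoot, hεN ε hε N hN])
    have d2 : (X ^ 2 - C y * X + 1 : L[X]) ∣ X ^ N - 1 := by
      have := quad_dvd hw hyw (ne_inv_of_sq hw hyw hy) hwN (by rw [inv_pow, hwN, inv_one])
      rwa [C_1] at this
    have hco : IsCoprime (X - C ε : L[X]) (X ^ 2 - C y * X + 1) := by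
      refine (irreducible_X_sub_C ε).coprime_iff_not_dvd.2 fun h => hxy ?_
      have h' : ε ^ 2 - y * ε + 1 = 0 := by simpa [IsRoot] using dvd_iff_isRoot.1 h
      rw [hxε]; linear_combination ε * h' + (y - ε) * hε
    rw [he]
    exact hco.pow_left.mul_dvd (pow_dvd_pow_of_dvd d1 2) (dvd_pow d2 two_ne_zero)
  by_cases hsv : s = v
  · -- equal factors
    by_cases h4 : s * s = 4
    · obtain ⟨ε, hε, -, he⟩ := hsq s h4
      obtain ⟨j, hj, hj4⟩ := eExp_prime_pow p
      refine ⟨eExp p, ε, Or.inr (Or.inr (Or.inr (Or.inr dvd_rfl))), hε, ?_⟩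
      rw [← hsv, he, ← pow_add]
      have hεe : ε ^ eExp p = ε := by
        rcases mul_self_eq_one_iff.1 hε with rfl | rfl
        exacts [one_pow _, neg_one_pow_eExp p]
      have : (X ^ eExp p - C ε : L[X]) = (X - C ε) ^ eExp p := by
        conv_lhs => rw [← hεe]
        rw [hj, sub_pow_char_pow, C_pow]
      rw [this, hj]
      exact pow_dvd_pow _ hj4
    · have hfix : s ^ q = s := by rcases hperm with h | h <;> rw [h] ; exact hsv.symm
      obtain ⟨N, hN, hlN⟩ : ∃ N, (N = q - 1 ∨ N = q + 1) ∧ l ^ N = 1 := by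
        rcases pow_pm (p := p) (k := k) hl hsl hfix with h | h
        exacts [⟨_, Or.inl rfl, h⟩, ⟨_, Or.inr rfl, h⟩]
      refine hrep N hN ?_
      have := quad_dvd hl hsl (ne_inv_of_sq hl hsl h4) hlN (by rw [inv_pow, hlN, inv_one])
      rw [C_1] at this
      rw [← hsv, ← sq]
      exact pow_dvd_pow_of_dvd this 2
  by_cases hfix : s ^ q = s
  · have hvv : v ^ q = v := by rw [hvfix, hfix, hv]
    by_cases hs4 : s * s = 4 <;> by_cases hv4 : v * v = 4
    · obtain ⟨ε, hε, hsε, he⟩ := hsq s hs4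
      obtain ⟨δ, hδ, hvδ, hd⟩ := hsq v hv4
      refine hrep (q - 1) (Or.inl rfl) ?_
      rw [he, hd]
      have hne : ε ≠ δ := fun h => hsv (by rw [hsε, hvδ, h])
      have d : ∀ η : L, η * η = 1 → (X - C η : L[X]) ∣ X ^ (q - 1) - 1 := fun η hη =>
        dvd_iff_isRoot.2 (by simp [IsRoot, hεN η hη _ (Or.inl rfl)])
      exact ((isCoprime_X_sub_C_of_isUnit_sub (isUnit_iff_ne_zero.2 (sub_ne_zero.2 hne))).pow).mul_dvd
        (pow_dvd_pow_of_dvd (d ε hε) 2) (pow_dvd_pow_of_dvd (d δ hδ) 2)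
    · obtain ⟨N, hN, h⟩ := hsingle s v hs4 hv4 hsv hvv
      exact hrep N hN h
    · obtain ⟨N, hN, h⟩ := hsingle v s hv4 hs4 (Ne.symm hsv) hfix
      exact hrep N hN (by rwa [mul_comm])
    · -- four roots in the tori
      refine ⟨(q ^ 2 - 1) / Nat.gcd 2 (q - 1), 1, Or.inl dvd_rfl, one_mul 1, ?_⟩
      have key : ∀ x w : L, w ≠ 0 → x = w + w⁻¹ → x * x ≠ 4 → x ^ q = x →
          (X ^ 2 - C x * X + 1 : L[X]) ∣ X ^ ((q ^ 2 - 1) / Nat.gcd 2 (q - 1)) - C 1 := by
        intro x w hw hxw h4 hfx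
        have hM : w ^ ((q ^ 2 - 1) / Nat.gcd 2 (q - 1)) = 1 := by
          have e : q ^ 2 - 1 = (q + 1) * (q - 1) := by
            rw [← Nat.sq_sub_sq, one_pow]
          rcases pow_pm (p := p) (k := k) hw hxw hfx with h | h <;>
            rcases two_mul_half hq1 with hd | ⟨ho, hd⟩ <;> rw [hd, e]
          · rw [Nat.div_one, mul_comm, pow_mul, h, one_pow]
          · rw [mul_comm, Nat.mul_div_assoc _ (by omega), pow_mul, h, one_pow]
          · rw [Nat.div_one, pow_mul, h, one_pow]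
          · rw [Nat.mul_div_assoc _ (by omega), pow_mul, h, one_pow]
        exact quad_dvd hw hxw (ne_inv_of_sq hw hxw h4) hM (by rw [inv_pow, hM, inv_one])
      have hco : IsCoprime (X ^ 2 - C s * X + 1 : L[X]) (X ^ 2 - C v * X + 1) := by
        have hnz : s - v ≠ 0 := sub_ne_zero.2 hsv
        refine isCoprime_of_quad hnz
      exact hco.mul_dvd (key s l hl hsl hs4 hfix) (key v m hm hvm hv4 hvv)
  · -- Frobenius swaps the factors
    have hsv' : s ^ q = v := hperm.resolve_left hfix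
    have hvs : v ^ q = s := by rw [hvfix, hsv', hv]; ring
    have hs4 : s * s ≠ 4 := fun h => by
      obtain ⟨ε, hε, e, -⟩ := hsq s h
      apply hfix
      rw [e, mul_pow, h2q]
      rcases mul_self_eq_one_iff.1 hε with rfl | rfl
      · rw [one_pow]
      · rw [neg_one_pow_q p k]
    have hv4 : v * v ≠ 4 := fun h => by
      obtain ⟨ε, hε, e, -⟩ := hsq v h
      apply hsv
      rw [← hvs, e, mul_pow, h2q]
      rcases mul_self_eq_one_iff.1 hε with rfl | rfl
      · rw [one_pow]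
      · rw [neg_one_pow_q p k]
    have hlv : v = l ^ q + (l ^ q)⁻¹ := by rw [← hsv']; exact frob_sum hsl
    have hfix2 : s ^ p ^ (k * 2) = s := by rw [pow_mul p, ← hq, pow_two, pow_mul, hsv', hvs]
    have hpk2 : p ^ (k * 2) = q ^ 2 := by rw [pow_mul]
    obtain ⟨M, hM, hlM, hMs⟩ : ∃ M, (q % 2 = 1 → 2 ∣ M) ∧ l ^ M = 1 ∧ M / Nat.gcd 2 (q - 1) ∈ spec p q := by
      rcases pow_pm (p := p) (k := k * 2) hl hsl hfix2 with h | h <;> rw [hpk2] at h
      · refine ⟨_, fun ho => ?_, h, Or.inl dvd_rfl⟩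
        have : q ^ 2 % 2 = 1 := by rw [Nat.pow_mod, ho]
        omega
      · refine ⟨_, fun ho => ?_, h, Or.inr (Or.inl dvd_rfl)⟩
        have : q ^ 2 % 2 = 1 := by rw [Nat.pow_mod, ho]
        omega
    obtain ⟨c, hc, h1, h2⟩ := quot_cases (quot_hyp hq1 hM) hlM
    refine ⟨_, c, hMs, hc, ?_⟩
    have hcq : c ^ q = c := by
      rcases mul_self_eq_one_iff.1 hc with rfl | rfl
      · rw [one_pow]
      · exact neg_one_pow_q p k
    refine (isCoprime_of_quad (sub_ne_zero.2 hsv)).mul_dvd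
      (quad_dvd hl hsl (ne_inv_of_sq hl hsl hs4) h1 h2)
      (quad_dvd (pow_ne_zero q hl) hlv (ne_inv_of_sq (pow_ne_zero q hl) hlv hv4) ?_ ?_)
    · rw [← pow_mul, mul_comm, pow_mul, h1, hcq]
    · rw [← inv_pow, ← pow_mul, mul_comm, pow_mul, h2, hcq]

end Closed

theorem psp_mem_spec {F : Type*} [Field F] [Fintype F] (p : ℕ) [Fact p.Prime] [CharP F p] {k : ℕ}
    (hF : Fintype.card F = p ^ k) (g : Cfsg.PSp 2 F) : orderOf g ∈ spec p (p ^ k) := by
  obtain ⟨A, rfl⟩ := QuotientGroup.mk_surjective g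
  obtain ⟨a, b, hab⟩ := SpecU42.exists_coeff A
  let L := AlgebraicClosure F
  let f := algebraMap F L
  haveI : CharP L p := charP_of_injective_algebraMap f.injective p
  have hfix : ∀ x : F, f x ^ p ^ k = f x := fun x => by
    rw [← map_pow, ← hF, FiniteField.pow_card]
  obtain ⟨M, c, hM, hc, hdvd⟩ := palindromic_dvd p k (f a) (f b) (hfix a) (hfix b)
  obtain ⟨c₀, hc₀, rfl⟩ : ∃ c₀ : F, c₀ * c₀ = 1 ∧ f c₀ = c := by
    rcases mul_self_eq_one_iff.1 hc with rfl | rfl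
    exacts [⟨1, one_mul 1, map_one f⟩, ⟨-1, by ring, by rw [map_neg, map_one]⟩]
  have hd : A.1.charpoly ∣ X ^ M - C c₀ := by
    rw [← Polynomial.map_dvd_map f f.injective A.1.charpoly_monic, hab]
    simpa using hdvd
  obtain ⟨r, hr⟩ := hd
  have hA : A.1 ^ M = c₀ • 1 := by
    have h := congrArg (aeval A.1) hr
    rw [map_mul, Matrix.aeval_self_charpoly, zero_mul, map_sub, map_pow, aeval_X, aeval_C,
      sub_eq_zero] at h
    rw [h, Algebra.algebraMap_eq_smul_one]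
  refine mem_spec_of_dvd (orderOf_dvd_of_pow_eq_one ?_) hM
  rw [← QuotientGroup.mk_pow, QuotientGroup.eq_one_iff, Spectrum.center_iff (by norm_num)]
  exact ⟨c₀, hc₀, by rw [SubmonoidClass.coe_pow, hA]⟩

end Cfsg.Agent.IsoSpecS4
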