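import Cfsg.Agent.Fg24.IsoPGL.Semidirect
import Cfsg.Agent.IsoSpecS4.Quad
import Cfsg.Agent.Spectrum.Orders

/-!
Arbitrarily large groups with spectrum `S` from a module of a finite group.
-/

set_option autoImplicit false

namespace Cfsg.Agent.IsoSpecS4

variable {P V : Type} [Group P] [AddCommGroup V]

theorem act_pow_apply (ρ : P →* AddMonoid.End V) (g : P) (i : ℕ) (v : V) :
    ρ (g ^ (i + 1)) v = ρ g (ρ (g ^ i) v) := by
  rw [pow_succ', map_mul]; rfl

/-- A norm of `g` is fixed by `g`. -/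
theorem sum_fixed (ρ : P →* AddMonoid.End V) (g : P) (v : V) {n : ℕ} (hn : g ^ n = 1) :
    ρ g (∑ i ∈ Finset.range n, ρ (g ^ i) v) = ∑ i ∈ Finset.range n, ρ (g ^ i) v := by
  rw [map_sum]
  have h1 := Finset.sum_range_succ (fun i => ρ (g ^ i) v) n
  have h2 := Finset.sum_range_succ' (fun i => ρ (g ^ i) v) n
  rw [h1, hn] at h2
  rw [pow_zero] at h2
  have h3 := add_right_cancel h2
  rw [h3]
  exact Finset.sum_congr rfl fun i _ => (act_pow_apply ρ g i v).symm

/-- The norm of a fixed vector is a multiple of it. -/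
theorem sum_of_fixed (ρ : P →* AddMonoid.End V) (g : P) {v : V} (hv : ρ g v = v) (n : ℕ) :
    ∑ i ∈ Finset.range n, ρ (g ^ i) v = n • v := by
  rw [Finset.sum_congr rfl (g := fun _ => v), Finset.sum_const, Finset.card_range]
  intro i hi
  clear hi
  induction i with
  | zero => rw [pow_zero, map_one]; rfl
  | succ i ih => rw [act_pow_apply, ih, hv]

/-- The spectrum of `P` together with the multiples by `r` allowed by `V`. -/
theorem exists_large_of_rep [Finite P] [Finite V] (r : ℕ) (hr : r.Prime) (hV : ∀ v : V, r • v = 0)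
    (hne : ∃ v : V, v ≠ 0) (ρ : P →* AddMonoid.End V) (S : Set ℕ)
    (hdown : ∀ n m, n ∣ m → m ∈ S → n ∈ S)
    (ha : ∀ g : P, orderOf g ∈ S)
    (hb : ∀ (g : P) (v : V), ∑ i ∈ Finset.range (orderOf g), ρ (g ^ i) v ≠ 0 → orderOf g * r ∈ S)
    (hgen : ∀ s ∈ S, (∃ g : P, s ∣ orderOf g) ∨
      ∃ (g : P) (v : V), s ∣ orderOf g * r ∧ ∑ i ∈ Finset.range (orderOf g), ρ (g ^ i) v ≠ 0)
    (N : ℕ) :
    ∃ (H : Type) (_ : Group H) (_ : Fintype H), N < Fintype.card H ∧
      Set.range (orderOf : H → ℕ) = S := by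
  classical
  let act : P → (Fin (N + 1) → V) ≃+ (Fin (N + 1) → V) := fun g =>
    { toFun := fun F j => ρ g (F j)
      invFun := fun F j => ρ g⁻¹ (F j)
      left_inv := fun F => funext fun j => by
        show (ρ g⁻¹ * ρ g) (F j) = F j
        rw [← map_mul, inv_mul_cancel, map_one]; rfl
      right_inv := fun F => funext fun j => by
        show (ρ g * ρ g⁻¹) (F j) = F j
        rw [← map_mul, mul_inv_cancel, map_one]; rfl
      map_add' := fun F G => funext fun j => map_add (ρ g) _ _ }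
  have hsum : ∀ (g : P) (n : ℕ) (F : Fin (N + 1) → V) (j : Fin (N + 1)),
      (∑ i ∈ Finset.range n, act (g ^ i) F) j = ∑ i ∈ Finset.range n, ρ (g ^ i) (F j) := fun g n F j => by
    rw [Finset.sum_apply]; rfl
  let S₀ : Set ℕ := {n | (∃ g : P, orderOf g = n) ∨
    ∃ (g : P) (v : V), orderOf g * r = n ∧ ∑ i ∈ Finset.range (orderOf g), ρ (g ^ i) v ≠ 0}
  obtain ⟨v₀, hv₀⟩ := hne
  obtain ⟨H, i1, i2, hle, heq⟩ := Fg24.IsoPGL.exists_semidirect r hr (W := Fin (N + 1) → V)
    (fun F => funext fun j => hV (F j)) act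
    (fun F => funext fun j => show ρ 1 (F j) = F j by rw [map_one]; rfl)
    (fun g h F => funext fun j => show ρ (g * h) (F j) = ρ g (ρ h (F j)) by rw [map_mul]; rfl) S₀
    (fun g => Or.inl ⟨g, rfl⟩)
    (fun g F hF => by
      obtain ⟨j, hj⟩ := Function.ne_iff.1 hF
      exact Or.inr ⟨g, F j, rfl, by rw [← hsum]; exact hj⟩)
    (fun s hs => by
      rcases hs with h | ⟨g, v, h, hv⟩
      · exact Or.inl h
      · refine Or.inr ⟨g, fun _ => v, h, fun e => hv ?_⟩
        rw [← hsum g _ (fun _ => v) 0, e]; rfl)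
  have hcard : N + 1 ≤ Nat.card (Fin (N + 1) → V) := by
    let ins : Fin (N + 1) → (Fin (N + 1) → V) := fun j => Pi.single j v₀
    have hinj : Function.Injective ins := fun i j h => by
      by_contra hij
      have h' := congrFun h i
      simp [ins, hij] at h'
      exact hv₀ h'
    simpa using Nat.card_le_card_of_injective ins hinj
  refine ⟨H, i1, i2, lt_of_lt_of_le (Nat.lt_succ_self N) (hcard.trans hle), Set.Subset.antisymm ?_ ?_⟩
  · intro n hn
    rw [heq] at hn
    rcases hn with ⟨g, rfl⟩ | ⟨g, v, rfl, hv⟩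
    · exact ha g
    · exact hb g v hv
  · intro s hs
    obtain ⟨t, ht, hst⟩ : ∃ t ∈ Set.range (orderOf : H → ℕ), s ∣ t := by
      rw [heq]
      rcases hgen s hs with ⟨g, h⟩ | ⟨g, v, h, hv⟩
      · exact ⟨_, Or.inl ⟨g, rfl⟩, h⟩
      · exact ⟨_, Or.inr ⟨g, v, rfl, hv⟩, h⟩
    obtain ⟨x, rfl⟩ := ht
    exact Spectrum.exists_orderOf_eq_of_dvd (orderOf_pos x).ne' hst

end Cfsg.Agent.IsoSpecS4
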