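import Cfsg.Agent.IsoSpecS4.Torus
import Cfsg.Agent.IsoSpecS4.Rep

/-!
The Hermitian module of `SL₂(q²)` (the natural module of `Ω₄⁻(q)`), and groups isospectral to
`PSp₄(q)` for `q` even.
-/

set_option autoImplicit false

namespace Cfsg.Agent.IsoSpecS4

open Matrix

variable {K : Type} [Field K]

local notation "SG" => Matrix.SpecialLinearGroup (Fin 2) K
local notation "M2" => Matrix (Fin 2) (Fin 2) K

/-- A field automorphism of order at most two. -/
structure Conj (K : Type) [Field K] where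
  /-- the map -/
  toHom : K →+* K
  inv : ∀ x, toHom (toHom x) = x

variable (σ : Conj K)

/-- Conjugate transpose. -/
def ct (A : M2) : M2 := (A.map σ.toHom).transpose

theorem ct_mul (A B : M2) : ct σ (A * B) = ct σ B * ct σ A := by
  rw [ct, Matrix.map_mul, Matrix.transpose_mul]; rfl

theorem ct_ct (A : M2) : ct σ (ct σ A) = A := by
  ext i j; simp [ct, σ.inv]

theorem ct_one : ct σ (1 : M2) = 1 := by
  simp [ct]

theorem ct_add (A B : M2) : ct σ (A + B) = ct σ A + ct σ B := by
  ext i j; simp [ct]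

/-- Hermitian matrices. -/
def herm : AddSubgroup M2 where
  carrier := {M | ct σ M = M}
  zero_mem' := by simp [ct]
  add_mem' := fun {A B} ha hb => by
    show ct σ (A + B) = A + B
    rw [ct_add, show ct σ A = A from ha, show ct σ B = B from hb]
  neg_mem' := fun {A} ha => by
    show ct σ (-A) = -A
    rw [show ct σ (-A) = -ct σ A by ext i j; simp [ct], show ct σ A = A from ha]

theorem herm_mem {M : M2} : M ∈ herm σ ↔ ct σ M = M := Iff.rfl

/-- The action `M ↦ g M g*`. -/
def hact (g : SG) : AddMonoid.End (herm σ) :=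
  AddMonoidHom.mk' (fun M => ⟨g.1 * M.1 * ct σ g.1, by
      rw [herm_mem, ct_mul, ct_mul, ct_ct, (herm_mem σ).1 M.2, mul_assoc]⟩)
    fun M N => Subtype.ext (by simp [mul_add, add_mul])

theorem hact_apply (g : SG) (M : herm σ) : (hact σ g M).1 = g.1 * M.1 * ct σ g.1 := rfl

/-- The action as a homomorphism. -/
def hrho : SG →* AddMonoid.End (herm σ) where
  toFun := hact σ
  map_one' := AddMonoidHom.ext fun M => Subtype.ext (by
    show (1 : SG).1 * M.1 * ct σ (1 : SG).1 = M.1
    simp [ct_one])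
  map_mul' g h := AddMonoidHom.ext fun M => Subtype.ext (by
    show (g * h : SG).1 * M.1 * ct σ (g * h : SG).1 = g.1 * (h.1 * M.1 * ct σ h.1) * ct σ g.1
    rw [Matrix.SpecialLinearGroup.coe_mul, ct_mul]
    simp only [mul_assoc])

theorem hrho_apply (g : SG) (M : herm σ) : (hrho σ g M).1 = g.1 * M.1 * ct σ g.1 := rfl

theorem hrho_center {g : SG} (hg : g ∈ Subgroup.center SG) : hrho σ g = 1 := by
  refine AddMonoidHom.ext fun M => Subtype.ext ?_
  show g.1 * M.1 * ct σ g.1 = M.1
  rcases SL2Class.mem_center_cases.1 hg with rfl | rfl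
  · simp [ct_one]
  · have : ct σ (-1 : M2) = -1 := by ext i j; by_cases h : i = j <;> simp [ct, h, eq_comm]
    rw [SL2Class.coe_neg_one, this]; simp

/-- The action of `PSL₂`. -/
noncomputable def prho : Matrix.ProjectiveSpecialLinearGroup (Fin 2) K →* AddMonoid.End (herm σ) :=
  QuotientGroup.lift _ (hrho σ) fun g hg => hrho_center σ hg

theorem prho_proj (g : SG) : prho σ (SL2Class.proj g) = hrho σ g := rfl

/-- Only elements with fixed trace have fixed vectors. -/
theorem tr_fixed (g : SG) {M : herm σ} (hM : M ≠ 0) (h : hrho σ g M = M) :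
    σ.toHom (SL2Class.tr g) = SL2Class.tr g := by
  by_contra hne
  apply hM
  have e : g.1 * M.1 * ct σ g.1 = M.1 := congrArg Subtype.val h
  have hg : ct σ g.1 * ct σ (g⁻¹).1 = 1 := by
    rw [← ct_mul, ← Matrix.SpecialLinearGroup.coe_mul, inv_mul_cancel, Matrix.SpecialLinearGroup.coe_one, ct_one]
  set t' := ct σ (g⁻¹).1
  have e1 : g.1 * M.1 = M.1 * t' := by
    conv_rhs => rw [← e]
    rw [mul_assoc (g.1 * M.1), hg, mul_one]
  have hq : t' * t' = σ.toHom (SL2Class.tr g) • t' - 1 := by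
    have h1 := cayley (g⁻¹)
    rw [SL2Class.tr_inv] at h1
    have h2 := congrArg (ct σ) (show (g⁻¹).1 * (g⁻¹).1 = SL2Class.tr g • (g⁻¹).1 - 1 by
      rw [← sub_eq_zero, ← h1]; abel)
    rw [ct_mul] at h2
    rw [h2]
    ext i j
    simp [ct, t', Matrix.one_apply, eq_comm, apply_ite σ.toHom]
  have e2 : SL2Class.tr g • (g.1 * M.1) - M.1 = σ.toHom (SL2Class.tr g) • (g.1 * M.1) - M.1 := by
    calc SL2Class.tr g • (g.1 * M.1) - M.1 = (g.1 * g.1) * M.1 := by
          have h1 := cayley g
          rw [show g.1 * g.1 = SL2Class.tr g • g.1 - 1 by rw [← sub_eq_zero, ← h1]; abel,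
            sub_mul, one_mul, smul_mul_assoc]
      _ = M.1 * (t' * t') := by rw [mul_assoc, e1, ← mul_assoc, e1, mul_assoc]
      _ = σ.toHom (SL2Class.tr g) • (g.1 * M.1) - M.1 := by
          rw [hq, mul_sub, mul_one, mul_smul_comm, e1]
  rw [sub_left_inj, ← sub_eq_zero, ← sub_smul, smul_eq_zero] at e2
  rcases e2 with e2 | e2
  · exact absurd (sub_eq_zero.1 e2).symm hne
  · have := congrArg ((g⁻¹).1 * ·) e2
    simp only [← mul_assoc, ← Matrix.SpecialLinearGroup.coe_mul, inv_mul_cancel,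
      Matrix.SpecialLinearGroup.coe_one, one_mul, mul_zero] at this
    exact Subtype.ext this

/-- `diag(a, d)` with fixed entries is Hermitian. -/
def hdiag (a d : K) (ha : σ.toHom a = a) (hd : σ.toHom d = d) : herm σ :=
  ⟨!![a, 0; 0, d], by
    rw [herm_mem]; ext i j; fin_cases i <;> fin_cases j <;> simp [ct, ha, hd]⟩

/-- The Hermitian matrix with off-diagonal `b`. -/
def hoff (b : K) : herm σ :=
  ⟨!![0, b; σ.toHom b, 0], by
    rw [herm_mem]; ext i j; fin_cases i <;> fin_cases j <;> simp [ct, σ.inv]⟩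

variable [Fintype K] (p : ℕ) [Fact p.Prime] [CharP K p] {k : ℕ}

/-- `x ↦ x^q` on a field of order `q²`. -/
noncomputable def frobConj (hK : Fintype.card K = (p ^ k) ^ 2) : Conj K where
  toHom := iterateFrobenius K p k
  inv x := by
    rw [iterateFrobenius_def, iterateFrobenius_def, ← pow_mul, ← pow_two, ← hK, FiniteField.pow_card]

theorem frobConj_apply (hK : Fintype.card K = (p ^ k) ^ 2) (x : K) :
    (frobConj p hK).toHom x = x ^ p ^ k := iterateFrobenius_def ..

theorem nsmul_herm (M : herm σ) : p • M = 0 := by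
  refine Subtype.ext ?_
  rw [AddSubmonoidClass.coe_nsmul]
  show p • M.1 = 0
  rw [← Nat.cast_smul_eq_nsmul K, CharP.cast_eq_zero, zero_smul]

theorem nsmul_ne_zero_of_not_dvd {n : ℕ} (hn : ¬ p ∣ n) {M : herm σ} (hM : M ≠ 0) : n • M ≠ 0 := by
  intro h
  apply hM
  refine Subtype.ext ?_
  have h' := congrArg Subtype.val h
  rw [AddSubmonoidClass.coe_nsmul, ← Nat.cast_smul_eq_nsmul K] at h'
  exact (smul_eq_zero.1 h').resolve_left fun e => hn ((CharP.cast_eq_zero_iff K p n).1 e)

/-- The case of even `q`. -/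
theorem exists_large_even [CharP K 2] (hk : 1 ≤ k) (hK : Fintype.card K = (2 ^ k) ^ 2) (N : ℕ) :
    ∃ (H : Type) (_ : Group H) (_ : Fintype H), N < Fintype.card H ∧
      Set.range (orderOf : H → ℕ) = spec 2 (2 ^ k) := by
  haveI : Fact (Nat.Prime 2) := ⟨Nat.prime_two⟩
  have hqe : (2 : ℕ) ∣ 2 ^ k := dvd_pow_self 2 (by omega)
  have hq1 : 1 ≤ 2 ^ k := Nat.one_le_two_pow
  have hd : Nat.gcd 2 (2 ^ k - 1) = 1 := Nat.prime_two.coprime_iff_not_dvd.2 (by omega)
  let c := frobConj 2 hK
  obtain ⟨μ, hμ⟩ := exists_gen 2 hK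
  have hq2 : (2 ^ k) ^ 2 - 1 = (2 ^ k + 1) * (2 ^ k - 1) := by rw [← Nat.sq_sub_sq, one_pow]
  have witness : ∀ (l : Kˣ) (n : ℕ), orderOf l = n → ¬ 2 ∣ n → ∀ M : herm c, M ≠ 0 →
      hrho c (dg l) M = M → ∃ (g : Matrix.ProjectiveSpecialLinearGroup (Fin 2) K) (v : herm c),
        orderOf g = n ∧ ∑ i ∈ Finset.range (orderOf g), prho c (g ^ i) v ≠ 0 := by
    intro l n hl hn M hM hfix
    have ho : orderOf (SL2Class.proj (dg l)) = n := by
      rw [orderOf_proj_dg, Nat.Coprime.orderOf_pow]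
      · exact hl
      · rw [hl]; exact (Nat.prime_two.coprime_iff_not_dvd.2 hn).symm
    refine ⟨SL2Class.proj (dg l), M, ho, ?_⟩
    rw [sum_of_fixed (prho c) _ (by rw [prho_proj]; exact hfix), ho]
    exact nsmul_ne_zero_of_not_dvd c 2 hn hM
  refine exists_large_of_rep 2 Nat.prime_two (nsmul_herm c 2)
    ⟨hoff c 1, fun h => by simpa [hoff] using congrArg (fun M : herm c => M.1 0 1) h⟩
    (prho c) (spec 2 (2 ^ k)) (fun n m => mem_spec_of_dvd) ?_ ?_ ?_ N
  · intro g
    obtain ⟨g, rfl⟩ := SL2Class.proj_surjective g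
    rcases proj_cases 2 hK g with h | h | h
    · exact mem_spec_of_dvd h (Or.inr (Or.inr (Or.inl (dvd_mul_right 2 _))))
    · exact Or.inl h
    · exact Or.inr (Or.inl h)
  · intro g v hv
    obtain ⟨g, rfl⟩ := SL2Class.proj_surjective g
    set n := orderOf (SL2Class.proj g) with hn
    have hfix := sum_fixed (prho c) (SL2Class.proj g) v (n := n) (pow_orderOf_eq_one _)
    rw [prho_proj] at hfix
    have htr := tr_fixed c g hv hfix
    rw [frobConj_apply] at htr
    by_cases h4 : SL2Class.tr g * SL2Class.tr g = 4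
    · have : n ∣ 2 := SL2Class.orderOf_proj_dvd_iff.2 (SL2Class.pow_tr_eq_four h4 2)
      refine Or.inr (Or.inr (Or.inr (Or.inr ?_)))
      simpa [eExp] using Nat.mul_dvd_mul_right this 2
    · rcases small_torus 2 k g h4 htr with h | h <;> rw [hd, Nat.div_one] at h
      · exact Or.inr (Or.inr (Or.inl (by rw [mul_comm n 2]; exact Nat.mul_dvd_mul_left 2 h)))
      · exact Or.inr (Or.inr (Or.inr (Or.inl (by rw [mul_comm n 2]; exact Nat.mul_dvd_mul_left 2 h))))
  · intro s hs
    rcases hs with h | h | h | h | h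
    · obtain ⟨g, hg⟩ := exists_big 2 hK _ (Or.inl rfl)
      exact Or.inl ⟨_, h.trans hg⟩
    · obtain ⟨g, hg⟩ := exists_big 2 hK _ (Or.inr rfl)
      exact Or.inl ⟨_, h.trans hg⟩
    · have ho : orderOf (μ ^ (2 ^ k + 1)) = 2 ^ k - 1 := orderOf_pow_quot (by omega) (hμ.trans hq2)
      set l := μ ^ (2 ^ k + 1)
      have hlq : (l : K) ^ 2 ^ k = l := by
        rw [← Nat.sub_add_cancel hq1, pow_succ, ← Units.val_pow_eq_pow_val, ← ho, pow_orderOf_eq_one,
          Units.val_one, one_mul]
      obtain ⟨g, v, hg, hv⟩ := witness l _ ho (by omega) (hoff c 1)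
        (fun h => by simpa [hoff] using congrArg (fun M : herm c => M.1 0 1) h) (Subtype.ext (by
          rw [hrho_apply]
          ext i j
          fin_cases i <;> fin_cases j <;>
            simp [hoff, ct, dg, Matrix.mul_apply, Fin.sum_univ_two, c, frobConj_apply, inv_pow, hlq]))
      exact Or.inr ⟨g, v, by rw [hg, mul_comm]; exact h, hv⟩
    · have ho : orderOf (μ ^ (2 ^ k - 1)) = 2 ^ k + 1 :=
        orderOf_pow_quot (by omega) (hμ.trans (hq2.trans (mul_comm _ _)))
      set l := μ ^ (2 ^ k - 1)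
      have hlq : (l : K) * (l : K) ^ 2 ^ k = 1 := by
        rw [← pow_succ', ← Units.val_pow_eq_pow_val, ← ho, pow_orderOf_eq_one, Units.val_one]
      obtain ⟨g, v, hg, hv⟩ := witness l _ ho (by omega) (hdiag c 1 0 (map_one _) (map_zero _))
        (fun h => by simpa [hdiag] using congrArg (fun M : herm c => M.1 0 0) h) (Subtype.ext (by
          rw [hrho_apply]
          ext i j
          fin_cases i <;> fin_cases j <;>
            simp [hdiag, ct, dg, Matrix.mul_apply, Fin.sum_univ_two, c, frobConj_apply, hlq]))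
      exact Or.inr ⟨g, v, by rw [hg, mul_comm]; exact h, hv⟩
    · refine Or.inr ⟨SL2Class.proj unip, hdiag c 0 1 (map_zero _) (map_one _), ?_, ?_⟩
      · rw [orderOf_proj_unip 2 hK]
        simpa [eExp] using h
      · rw [orderOf_proj_unip 2 hK, Finset.sum_range_succ, Finset.sum_range_one, pow_zero, pow_one,
          map_one, prho_proj]
        intro e
        have := congrArg (fun M : herm c => M.1 0 1) e
        change (((hdiag c 0 1 (map_zero _) (map_one _)).1 : Matrix (Fin 2) (Fin 2) K) +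
          (unip (F := K)).1 * (hdiag c 0 1 (map_zero _) (map_one _)).1 * ct c (unip (F := K)).1) 0 1 = 0 at this
        simp [hdiag, ct, unip, Matrix.vecMul, dotProduct, Fin.sum_univ_two] at this

end Cfsg.Agent.IsoSpecS4
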