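import Cfsg.Agent.IsoSpecS4.Herm

/-!
Groups isospectral to `PSp₄(q)` for `q = 3^(2t)`: the module `N ⊗ N^(3) ⊗ N^(q) ⊗ N^(q)` of
`PSL₂(q²)`.
-/

set_option autoImplicit false

namespace Cfsg.Agent.IsoSpecS4

open Matrix
open scoped Kronecker

variable {L : Type*} [Field L]

/-- The index type of the tensor product. -/
abbrev Idx : Type := (Fin 2 × Fin 2) × (Fin 2 × Fin 2)

section Kr

variable [CharP L 3] (k : ℕ)

/-- `A ⊗ A^(3) ⊗ A^(q) ⊗ A^(q)`. -/
noncomputable def kr (A : Matrix (Fin 2) (Fin 2) L) : Matrix Idx Idx L :=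
  haveI : Fact (Nat.Prime 3) := ⟨Nat.prime_three⟩
  (A ⊗ₖ A.map (iterateFrobenius L 3 1)) ⊗ₖ
    (A.map (iterateFrobenius L 3 k) ⊗ₖ A.map (iterateFrobenius L 3 k))

theorem kr_mul (A B : Matrix (Fin 2) (Fin 2) L) : kr k (A * B) = kr k A * kr k B := by
  simp only [kr, Matrix.map_mul, Matrix.mul_kronecker_mul]

theorem kr_one : kr k (1 : Matrix (Fin 2) (Fin 2) L) = 1 := by
  simp [kr]

theorem kr_neg_one : kr k (-1 : Matrix (Fin 2) (Fin 2) L) = 1 := by
  have e : ∀ f : L →+* L, (-1 : Matrix (Fin 2) (Fin 2) L).map f = (-1 : L) • 1 := fun f => by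
    rw [← RingHom.mapMatrix_apply, map_neg, map_one, neg_one_smul]
  simp only [kr, e]
  rw [show (-1 : Matrix (Fin 2) (Fin 2) L) = (-1 : L) • 1 from (neg_one_smul L _).symm]
  simp only [Matrix.smul_kronecker, Matrix.kronecker_smul, Matrix.one_kronecker_one, smul_smul]
  norm_num

theorem kr_apply (A : Matrix (Fin 2) (Fin 2) L) (i j : Idx) :
    kr k A i j = A i.1.1 j.1.1 * A i.1.2 j.1.2 ^ 3 *
      (A i.2.1 j.2.1 ^ 3 ^ k * A i.2.2 j.2.2 ^ 3 ^ k) := by
  simp only [kr, Matrix.kroneckerMap_apply, Matrix.map_apply, iterateFrobenius_def, pow_one]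

end Kr

theorem kr_map {K : Type*} [Field K] [CharP K 3] [CharP L 3] (k : ℕ) (f : K →+* L)
    (A : Matrix (Fin 2) (Fin 2) K) : (kr k A).map f = kr k (A.map f) := by
  ext i j
  rw [Matrix.map_apply, kr_apply, kr_apply]
  simp

theorem weight_cases {l : L} {q : ℕ} (hl : l ≠ 0) (a b c d : Fin 2)
    (h : ![l, l⁻¹] a * ![l, l⁻¹] b ^ 3 * (![l, l⁻¹] c ^ q * ![l, l⁻¹] d ^ q) = 1) :
    (l ^ 2) ^ 2 = 1 ∨ (l ^ 2) ^ q = l ^ 2 ∨ (l ^ 2) ^ q * l ^ 2 = 1 ∨ (l ^ 2) ^ q * (l ^ 2) ^ 2 = 1 ∨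
      (l ^ 2) ^ q = (l ^ 2) ^ 2 := by
  have hu : ![l, l⁻¹] a * ![l, l⁻¹] b ^ 3 = (l ^ 2) ^ 2 ∨ ![l, l⁻¹] a * ![l, l⁻¹] b ^ 3 = ((l ^ 2) ^ 2)⁻¹ ∨
      ![l, l⁻¹] a * ![l, l⁻¹] b ^ 3 = l ^ 2 ∨ ![l, l⁻¹] a * ![l, l⁻¹] b ^ 3 = (l ^ 2)⁻¹ := by
    fin_cases a <;> fin_cases b
    · left; simp; ring
    · right; right; right; simp; field_simp
    · right; right; left; simp; field_simp
    · right; left; simp; field_simp
  have hw : ![l, l⁻¹] c ^ q * ![l, l⁻¹] d ^ q = (l ^ 2) ^ q ∨ ![l, l⁻¹] c ^ q * ![l, l⁻¹] d ^ q = 1 ∨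
      ![l, l⁻¹] c ^ q * ![l, l⁻¹] d ^ q = ((l ^ 2) ^ q)⁻¹ := by
    rw [← mul_pow, ← inv_pow]
    fin_cases c <;> fin_cases d
    · left; simp; ring
    · right; left; simp [hl]
    · right; left; simp [hl]
    · right; right; simp; ring
  have hν : l ^ 2 ≠ 0 := pow_ne_zero 2 hl
  set ν := l ^ 2
  have hνq : ν ^ q ≠ 0 := pow_ne_zero q hν
  rcases hu with e | e | e | e <;> rcases hw with e' | e' | e' <;> rw [e, e'] at h <;> field_simp at h
  · right; right; right; left; linear_combination h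
  · left; linear_combination h
  · right; right; right; right; linear_combination -h
  · right; right; right; right; linear_combination h
  · left; linear_combination -h
  · right; right; right; left; linear_combination -h
  · right; right; left; linear_combination h
  · left; rw [h]; ring
  · right; left; linear_combination -h
  · right; left; linear_combination h
  · left; rw [← h]; ring
  · right; right; left; linear_combination -h

/-- Diagonalisation of a `2 × 2` matrix with distinct eigenvalues `l, l⁻¹`. -/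
theorem exists_diag (A : Matrix (Fin 2) (Fin 2) L) {l : L} (hl : l ≠ 0) (hne : l ≠ l⁻¹)
    (htr : A 0 0 + A 1 1 = l + l⁻¹) (hdet : A 0 0 * A 1 1 - A 0 1 * A 1 0 = 1) :
    ∃ P Q : Matrix (Fin 2) (Fin 2) L, ∃ m : L, (m = l ∨ m = l⁻¹) ∧ P * Q = 1 ∧
      A * P = P * Matrix.diagonal ![m, m⁻¹] := by
  have hll : l * l⁻¹ = 1 := mul_inv_cancel₀ hl
  by_cases hb : A 0 1 = 0
  · rw [hb, zero_mul, sub_zero] at hdet
    have hd : A 1 1 = (A 0 0)⁻¹ := eq_inv_of_mul_eq_one_right hdet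
    have hA : A 0 0 = l ∨ A 0 0 = l⁻¹ := by
      refine eq_or_inv (left_ne_zero_of_mul_eq_one hdet) hl ?_
      rw [← hd, htr]
    have hnd : A 0 0 - A 1 1 ≠ 0 := by
      rw [hd, sub_ne_zero]
      rcases hA with e | e <;> rw [e]
      · exact hne
      · rw [inv_inv]; exact hne.symm
    let P : Matrix (Fin 2) (Fin 2) L := !![A 0 0 - A 1 1, 0; A 1 0, 1]
    have hP : IsUnit P.det := isUnit_iff_ne_zero.2 (by simpa [P, Matrix.det_fin_two] using hnd)
    refine ⟨P, P⁻¹, A 0 0, hA, Matrix.mul_nonsing_inv P hP, ?_⟩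
    rw [← hd]
    ext i j
    fin_cases i <;> fin_cases j <;>
      simp [P, Matrix.mul_apply, Fin.sum_univ_two, hb, Matrix.vecMul, dotProduct] <;> ring
  · let P : Matrix (Fin 2) (Fin 2) L := !![A 0 1, A 0 1; l - A 0 0, l⁻¹ - A 0 0]
    have hP : IsUnit P.det := by
      refine isUnit_iff_ne_zero.2 ?_
      rw [Matrix.det_fin_two]
      have : A 0 1 * (l⁻¹ - A 0 0) - A 0 1 * (l - A 0 0) = A 0 1 * (l⁻¹ - l) := by ring
      simpa [P, this] using mul_ne_zero hb (sub_ne_zero.2 hne.symm)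
    refine ⟨P, P⁻¹, l, Or.inl rfl, Matrix.mul_nonsing_inv P hP, ?_⟩
    ext i j
    fin_cases i <;> fin_cases j <;>
      simp [P, Matrix.mul_apply, Fin.sum_univ_two, Matrix.vecMul, dotProduct] <;>
      first
        | ring1
        | linear_combination (-1 : L) * hdet + l * htr + hll
        | linear_combination (-1 : L) * hdet + l⁻¹ * htr + hll

variable {K : Type} [Field K] [Fintype K] [CharP K 3] {k : ℕ}

local notation "SG" => Matrix.SpecialLinearGroup (Fin 2) K

/-- The action on the tensor product. -/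
noncomputable def krho (k : ℕ) : SG →* AddMonoid.End (Idx → K) where
  toFun g := AddMonoidHom.mk' (fun v => kr k g.1 *ᵥ v) fun u v => Matrix.mulVec_add _ u v
  map_one' := AddMonoidHom.ext fun v => by
    show kr k (1 : SG).1 *ᵥ v = v
    rw [Matrix.SpecialLinearGroup.coe_one, kr_one, Matrix.one_mulVec]
  map_mul' g h := AddMonoidHom.ext fun v => by
    show kr k (g * h : SG).1 *ᵥ v = kr k g.1 *ᵥ (kr k h.1 *ᵥ v)
    rw [Matrix.SpecialLinearGroup.coe_mul, kr_mul, Matrix.mulVec_mulVec]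

omit [Fintype K] in
theorem krho_apply (g : SG) (v : Idx → K) : krho k g v = kr k g.1 *ᵥ v := rfl

/-- The action of `PSL₂`. -/
noncomputable def pkrho (k : ℕ) : Matrix.ProjectiveSpecialLinearGroup (Fin 2) K →* AddMonoid.End (Idx → K) :=
  QuotientGroup.lift _ (krho k) fun g hg => AddMonoidHom.ext fun v => by
    show kr k g.1 *ᵥ v = v
    rcases SL2Class.mem_center_cases.1 hg with rfl | rfl
    · rw [Matrix.SpecialLinearGroup.coe_one, kr_one, Matrix.one_mulVec]
    · rw [SL2Class.coe_neg_one, kr_neg_one, Matrix.one_mulVec]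

omit [Fintype K] in
theorem pkrho_proj (g : SG) : pkrho k (SL2Class.proj g) = krho k g := rfl

theorem mod_five {t : ℕ} : 3 ^ (2 * t) % 5 = 1 ∨ 3 ^ (2 * t) % 5 = 4 := by
  induction t with
  | zero => simp
  | succ t ih =>
    rw [show 2 * (t + 1) = 2 * t + 2 by ring, pow_add, Nat.mul_mod]
    rcases ih with h | h <;> rw [h] <;> simp

/-- A semisimple element with a fixed vector has small order. -/
theorem order_of_fixed {t : ℕ} (ht : 1 ≤ t) (hkt : k = 2 * t) (hK : Fintype.card K = (3 ^ k) ^ 2)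
    (g : SG) (h4 : SL2Class.tr g * SL2Class.tr g ≠ 4) {v : Idx → K} (hv : v ≠ 0)
    (hfix : kr k g.1 *ᵥ v = v) :
    orderOf (SL2Class.proj g) ∣ 3 ^ k - 1 ∨ orderOf (SL2Class.proj g) ∣ 3 ^ k + 1 := by
  haveI : Fact (Nat.Prime 3) := ⟨Nat.prime_three⟩
  let L' := AlgebraicClosure K
  let f := algebraMap K L'
  haveI : CharP L' 3 := charP_of_injective_algebraMap f.injective 3
  obtain ⟨l₀, hl₀, htl₀⟩ := exists_root_quad (f (SL2Class.tr g))
  have hne₀ : l₀ ≠ l₀⁻¹ := ne_inv_of_sq hl₀ htl₀ (fun h => h4 (f.injective (by rw [map_mul, h, map_ofNat])))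
  set A := g.1.map f with hA
  obtain ⟨P, Q, l, hlc, hPQ, hAP⟩ := exists_diag A hl₀ hne₀
    (by rw [← htl₀, SL2Class.tr, map_add]; rfl)
    (by
      have := congrArg f (SL2Class.det_eq g)
      simpa [hA] using this)
  have hl : l ≠ 0 := by
    rcases hlc with rfl | rfl
    exacts [hl₀, inv_ne_zero hl₀]
  have hQP : Q * P = 1 := mul_eq_one_comm.1 hPQ
  set n := orderOf (SL2Class.proj g)
  have hpow : ∀ j : ℕ, (g ^ j).1.map f = P * Matrix.diagonal ![l ^ j, (l ^ j)⁻¹] * Q := by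
    intro j
    induction j with
    | zero =>
      have : (![1, 1] : Fin 2 → L') = 1 := by ext i; fin_cases i <;> rfl
      simp [this, hPQ, Matrix.diagonal_one]
    | succ j ih =>
      have hA' : A = P * Matrix.diagonal ![l, l⁻¹] * Q := by rw [← hAP, mul_assoc, hPQ, mul_one]
      have hdd : Matrix.diagonal ![l ^ j, (l ^ j)⁻¹] * Matrix.diagonal ![l, l⁻¹] =
          Matrix.diagonal ![l ^ (j + 1), (l ^ (j + 1))⁻¹] := by
        rw [Matrix.diagonal_mul_diagonal]
        congr 1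
        ext i; fin_cases i <;> simp [pow_succ, mul_comm, mul_inv]
      rw [pow_succ, Matrix.SpecialLinearGroup.coe_mul, Matrix.map_mul, ih, ← hA, hA', ← hdd]
      simp only [mul_assoc]
      rw [← mul_assoc Q P, hQP, one_mul]
  have hdvd : ∀ m : ℕ, (l ^ 2) ^ m = 1 → n ∣ m := by
    intro m hm
    rw [proj_pow_eq_one]
    have hc : l ^ m * l ^ m = 1 := by rw [← pow_add, ← two_mul, pow_mul, hm]
    have hinv : (l ^ m)⁻¹ = l ^ m := inv_eq_of_mul_eq_one_left hc
    have e := hpow m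
    rw [hinv] at e
    rcases mul_self_eq_one_iff.1 hc with h | h
    · left
      refine Subtype.ext (Matrix.map_injective f.injective ?_)
      have : (![1, 1] : Fin 2 → L') = 1 := by ext i; fin_cases i <;> rfl
      simpa [h, this, hPQ, Matrix.diagonal_one] using e
    · right
      refine Subtype.ext (Matrix.map_injective f.injective ?_)
      have : Matrix.diagonal (![-1, -1] : Fin 2 → L') = -1 := by
        ext i j; fin_cases i <;> fin_cases j <;> simp
      simpa [h, this, hPQ, Matrix.map_neg] using e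
  have hn2 : (l ^ 2) ^ n = 1 := by
    have e := hpow n
    have h := (proj_pow_eq_one (g := g) (n := n)).1 dvd_rfl
    have e' : Matrix.diagonal ![l ^ n, (l ^ n)⁻¹] = Q * (g ^ n).1.map f * P := by
      rw [e]; simp only [← mul_assoc, hQP, one_mul]; rw [mul_assoc, hQP, mul_one]
    rw [← pow_mul, mul_comm 2 n, pow_mul]
    rcases h with h | h <;> rw [h] at e' <;> simp [hQP, Matrix.map_neg] at e' <;>
      (first
        | (have e00 := congrFun e' 0; simp at e00; simp [e00])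
        | (have e00 := congrFun (congrFun e' 0) 0; simp at e00; simp [e00]))
  obtain ⟨i, hi⟩ : ∃ i : Idx, ![l, l⁻¹] i.1.1 * ![l, l⁻¹] i.1.2 ^ 3 *
      (![l, l⁻¹] i.2.1 ^ 3 ^ k * ![l, l⁻¹] i.2.2 ^ 3 ^ k) = 1 := by
    let w : Idx → L' := f ∘ v
    have hw : kr k A *ᵥ w = w := by
      funext i
      have h := congrArg f (congrFun hfix i)
      rw [RingHom.map_mulVec, kr_map] at h
      exact h
    let u := kr k Q *ᵥ w
    have hu0 : u ≠ 0 := fun h0 => by
      apply hv
      have : w = 0 := by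
        have : kr k P *ᵥ u = w := by rw [Matrix.mulVec_mulVec, ← kr_mul, hPQ, kr_one, Matrix.one_mulVec]
        rw [← this, h0, Matrix.mulVec_zero]
      funext i
      exact f.injective (by rw [Pi.zero_apply, map_zero]; exact congrFun this i)
    have hu : kr k (Matrix.diagonal ![l, l⁻¹]) *ᵥ u = u := by
      have e : Matrix.diagonal ![l, l⁻¹] * Q = Q * A := by
        calc Matrix.diagonal ![l, l⁻¹] * Q = Q * (P * Matrix.diagonal ![l, l⁻¹]) * Q := by
              rw [← mul_assoc Q, hQP, one_mul]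
          _ = Q * A := by rw [← hAP, mul_assoc, mul_assoc, hPQ, mul_one]
      show _ *ᵥ (kr k Q *ᵥ w) = _
      rw [Matrix.mulVec_mulVec, ← kr_mul, e, kr_mul, ← Matrix.mulVec_mulVec, hw]
    obtain ⟨i, hi⟩ := Function.ne_iff.1 hu0
    refine ⟨i, ?_⟩
    have hd : kr k (Matrix.diagonal ![l, l⁻¹]) = Matrix.diagonal (fun i : Idx => ![l, l⁻¹] i.1.1 *
        ![l, l⁻¹] i.1.2 ^ 3 * (![l, l⁻¹] i.2.1 ^ 3 ^ k * ![l, l⁻¹] i.2.2 ^ 3 ^ k)) := by
      simp only [kr, Matrix.diagonal_map (map_zero _), Matrix.diagonal_kronecker_diagonal]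
      congr 1
    rw [hd] at hu
    have hiu := congrFun hu i
    rw [Matrix.mulVec_diagonal] at hiu
    exact mul_left_eq_self₀.1 hiu |>.resolve_right hi
  have hq1 : 1 ≤ 3 ^ k := Nat.one_le_pow _ _ (by norm_num)
  have hq9 : 9 ≤ 3 ^ k := by
    calc 9 = 3 ^ 2 := rfl
      _ ≤ 3 ^ k := Nat.pow_le_pow_right (by norm_num) (by omega)
  have hν : l ^ 2 ≠ 0 := pow_ne_zero 2 hl
  have h2d : n ∣ 2 → n ∣ 3 ^ k - 1 := fun h => h.trans (by
    have : (3 ^ k) % 2 = 1 := by rw [Nat.pow_mod]; simp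
    omega)
  have hgcd : ∀ m : ℕ, (l ^ 2) ^ m = 1 → (n ∣ 3 ^ k - 1 ∨ n ∣ 3 ^ k + 1) ∨
      (n ∣ m ∧ (n ∣ (3 ^ k) ^ 2 - 1 ∨ n ∣ (3 ^ k) ^ 2 + 1)) := by
    intro m hm
    rcases proj_cases 3 hK g with h | h | h
    · left; left
      rcases (Nat.dvd_prime Nat.prime_three).1 h with e | e
      · show n ∣ _; rw [show n = 1 from e]; exact one_dvd _
      · -- a semisimple element is not of order three
        exfalso
        have h1 : (l ^ 2) ^ 3 = 1 := by
          have : n = 3 := e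
          rw [← this]; exact hn2
        have h2 : (l ^ 2 - 1) ^ 3 = 0 := by rw [sub_pow_char, h1, one_pow, sub_self]
        have h3 : n ∣ 1 := hdvd 1 (by rw [pow_one]; exact sub_eq_zero.1 (pow_eq_zero_iff (by norm_num) |>.1 h2))
        rw [show n = 3 from e] at h3
        norm_num at h3
    · refine Or.inr ⟨hdvd m hm, Or.inl (h.trans (Nat.div_dvd_of_dvd ?_))⟩
      have h3 : (3 ^ k) % 2 = 1 := by rw [Nat.pow_mod]; simp
      rw [Nat.gcd_eq_left (show 2 ∣ 3 ^ k - 1 by omega)]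
      have : ((3 ^ k) ^ 2) % 2 = 1 := by rw [Nat.pow_mod, h3]
      omega
    · refine Or.inr ⟨hdvd m hm, Or.inr (h.trans (Nat.div_dvd_of_dvd ?_))⟩
      have h3 : (3 ^ k) % 2 = 1 := by rw [Nat.pow_mod]; simp
      rw [Nat.gcd_eq_left (show 2 ∣ 3 ^ k - 1 by omega)]
      have : ((3 ^ k) ^ 2) % 2 = 1 := by rw [Nat.pow_mod, h3]
      omega
  have h35 : ∀ m, (m = 3 ^ k + 2 ∨ m + 2 = 3 ^ k) → n ∣ m → (n ∣ (3 ^ k) ^ 2 - 1 ∨ n ∣ (3 ^ k) ^ 2 + 1) →
      n ∣ 3 ^ k - 1 := by
    intro m hm hnm hn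
    have hq3 : 3 ∣ 3 ^ k := dvd_pow_self 3 (by omega)
    have hq5 := mod_five (t := t)
    rw [← hkt] at hq5
    suffices n = 1 by rw [this]; exact one_dvd _
    have key : n ∣ 3 ∨ n ∣ 5 := by
      rcases hn with h | h
      · left
        have e : (3 ^ k) ^ 2 - 1 = (3 ^ k + 2) * (3 ^ k - 2) + 3 := by
          rw [← Nat.sq_sub_sq]
          have : 81 ≤ (3 ^ k) ^ 2 := Nat.pow_le_pow_left hq9 2
          omega
        rw [e] at h
        refine (Nat.dvd_add_iff_right ?_).2 h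
        rcases hm with rfl | hm
        · exact hnm.trans (dvd_mul_right _ _)
        · exact (show m = 3 ^ k - 2 by omega) ▸ hnm.trans (dvd_mul_left _ _)
      · right
        have e : (3 ^ k) ^ 2 + 1 = (3 ^ k + 2) * (3 ^ k - 2) + 5 := by
          rw [← Nat.sq_sub_sq]
          have : 81 ≤ (3 ^ k) ^ 2 := Nat.pow_le_pow_left hq9 2
          omega
        rw [e] at h
        refine (Nat.dvd_add_iff_right ?_).2 h
        rcases hm with rfl | hm
        · exact hnm.trans (dvd_mul_right _ _)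
        · exact (show m = 3 ^ k - 2 by omega) ▸ hnm.trans (dvd_mul_left _ _)
    rcases key with h | h
    · rcases (Nat.dvd_prime Nat.prime_three).1 h with e | e
      · exact e
      · exfalso; rw [e] at hnm; omega
    · rcases (Nat.dvd_prime Nat.prime_five).1 h with e | e
      · exact e
      · exfalso; rw [e] at hnm; omega
  rcases weight_cases hl _ _ _ _ hi with h | h | h | h | h
  · exact Or.inl (h2d (hdvd 2 h))
  · refine Or.inl (hdvd _ (mul_right_cancel₀ hν ?_))
    rw [← pow_succ, Nat.sub_add_cancel hq1, h, one_mul]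
  · exact Or.inr (hdvd _ (by rw [pow_succ, h]))
  · rcases hgcd (3 ^ k + 2) (by rw [pow_add, h]) with e | ⟨e1, e2⟩
    exacts [e, Or.inl (h35 _ (Or.inl rfl) e1 e2)]
  · have hm : (l ^ 2) ^ (3 ^ k - 2) = 1 := by
      refine mul_right_cancel₀ (pow_ne_zero 2 hν) ?_
      rw [← pow_add, Nat.sub_add_cancel (by omega), h, one_mul]
    rcases hgcd _ hm with e | ⟨e1, e2⟩
    exacts [e, Or.inl (h35 _ (Or.inr (by omega)) e1 e2)]

/-- The case `q = 3^(2t)`. -/
theorem exists_large_three {t : ℕ} (ht : 1 ≤ t) (hkt : k = 2 * t) (hK : Fintype.card K = (3 ^ k) ^ 2) (N : ℕ) :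
    ∃ (H : Type) (_ : Group H) (_ : Fintype H), N < Fintype.card H ∧
      Set.range (orderOf : H → ℕ) = spec 3 (3 ^ k) := by
  haveI : Fact (Nat.Prime 3) := ⟨Nat.prime_three⟩
  have hq3 : 3 ∣ 3 ^ k := dvd_pow_self 3 (by omega)
  have hq1 : 1 ≤ 3 ^ k := Nat.one_le_pow _ _ (by norm_num)
  have hq2' : (3 ^ k) % 2 = 1 := by rw [Nat.pow_mod]; simp
  have hq9 : 9 ≤ 3 ^ k := by
    calc 9 = 3 ^ 2 := rfl
      _ ≤ 3 ^ k := Nat.pow_le_pow_right (by norm_num) (by omega)
  obtain ⟨μ, hμ⟩ := exists_gen 3 hK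
  have hq2 : (3 ^ k) ^ 2 - 1 = (3 ^ k + 1) * (3 ^ k - 1) := by rw [← Nat.sq_sub_sq, one_pow]
  obtain ⟨a, ha⟩ : ∃ a, 3 ^ k + 1 = 2 * a := ⟨(3 ^ k + 1) / 2, by omega⟩
  obtain ⟨b, hb⟩ : ∃ b, 3 ^ k - 1 = 2 * b := ⟨(3 ^ k - 1) / 2, by omega⟩
  let c := frobConj 3 hK
  have witness : ∀ (l : Kˣ) (n : ℕ), orderOf (l ^ 2) = n → ¬ 3 ∣ n → ∀ i : Idx,
      kr k (Matrix.diagonal ![(l : K), (l : K)⁻¹]) i i = 1 →
      ∃ (g : Matrix.ProjectiveSpecialLinearGroup (Fin 2) K) (v : Idx → K),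
        orderOf g = n ∧ ∑ j ∈ Finset.range (orderOf g), pkrho k (g ^ j) v ≠ 0 := by
    intro l n hl hn i hii
    have ho : orderOf (SL2Class.proj (dg l)) = n := (orderOf_proj_dg l).trans hl
    have e : (dg l).1 = Matrix.diagonal ![(l : K), (l : K)⁻¹] := by
      ext a b; fin_cases a <;> fin_cases b <;> simp [dg]
    have hfix : pkrho k (SL2Class.proj (dg l)) (Pi.single i 1) = Pi.single i 1 := by
      rw [pkrho_proj, krho_apply, e]
      funext j
      rw [Matrix.mulVec_single_one]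
      show kr k _ j i = _
      by_cases hji : j = i
      · subst hji; rw [hii, Pi.single_eq_same]
      · rw [Pi.single_eq_of_ne hji]
        simp only [kr, Matrix.diagonal_map (map_zero _), Matrix.diagonal_kronecker_diagonal]
        exact Matrix.diagonal_apply_ne _ hji
    refine ⟨SL2Class.proj (dg l), Pi.single i 1, ho, ?_⟩
    rw [sum_of_fixed (V := Idx → K) (pkrho k) _ hfix, ho]
    intro h
    have := congrFun h i
    rw [Pi.smul_apply, Pi.single_eq_same, nsmul_eq_mul, mul_one, Pi.zero_apply,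
      CharP.cast_eq_zero_iff K 3] at this
    exact hn this
  refine exists_large_of_rep (V := Idx → K) 3 Nat.prime_three
    (fun v => funext fun i => by
      rw [Pi.smul_apply, nsmul_eq_mul, CharP.cast_eq_zero K 3, zero_mul]; rfl)
    ⟨fun _ => 1, fun h => one_ne_zero (congrFun h ((0, 0), (0, 0)))⟩
    (pkrho k) (spec 3 (3 ^ k)) (fun n m => mem_spec_of_dvd) ?_ ?_ ?_ N
  · intro g
    obtain ⟨g, rfl⟩ := SL2Class.proj_surjective g
    rcases proj_cases 3 hK g with h | h | h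
    · exact mem_spec_of_dvd h (Or.inr (Or.inr (Or.inl (dvd_mul_right 3 _))))
    · exact Or.inl h
    · exact Or.inr (Or.inl h)
  · intro g v hv
    obtain ⟨g, rfl⟩ := SL2Class.proj_surjective g
    set n := orderOf (SL2Class.proj g) with hn
    by_cases h4 : SL2Class.tr g * SL2Class.tr g = 4
    · have : n ∣ 3 := SL2Class.orderOf_proj_dvd_iff.2 (SL2Class.pow_tr_eq_four h4 3)
      exact Or.inr (Or.inr (Or.inr (Or.inr (by simpa [eExp] using Nat.mul_dvd_mul_right this 3))))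
    · have hfix := sum_fixed (V := Idx → K) (pkrho k) (SL2Class.proj g) v (n := n) (pow_orderOf_eq_one _)
      rw [pkrho_proj] at hfix
      rcases order_of_fixed ht hkt hK g h4 hv hfix with h | h
      · exact Or.inr (Or.inr (Or.inl (by rw [mul_comm n 3]; exact Nat.mul_dvd_mul_left 3 h)))
      · exact Or.inr (Or.inr (Or.inr (Or.inl (by rw [mul_comm n 3]; exact Nat.mul_dvd_mul_left 3 h))))
  · intro s hs
    rcases hs with h | h | h | h | h
    · obtain ⟨g, hg⟩ := exists_big 3 hK _ (Or.inl rfl)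
      exact Or.inl ⟨_, h.trans hg⟩
    · obtain ⟨g, hg⟩ := exists_big 3 hK _ (Or.inr rfl)
      exact Or.inl ⟨_, h.trans hg⟩
    · have ho : orderOf ((μ ^ a) ^ 2) = 3 ^ k - 1 := by
        rw [← pow_mul, orderOf_pow_quot (b := 3 ^ k - 1) (by omega) (by rw [hμ, hq2, ha]; ring)]
      have hl : ((μ ^ a : Kˣ) : K) ^ (2 * (3 ^ k - 1)) = 1 := by
        rw [← Units.val_pow_eq_pow_val, pow_mul, ← ho, pow_orderOf_eq_one, Units.val_one]
      obtain ⟨g, v, hg, hv⟩ := witness _ _ ho (by omega) ((1, 0), (1, 1)) (by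
        rw [kr_apply]
        set x := ((μ ^ a : Kˣ) : K) with hx
        have hx0 : x ≠ 0 := Units.ne_zero _
        have hxx : x ^ (2 * 3 ^ k) = x ^ 2 := by
          rw [show 2 * 3 ^ k = 2 * (3 ^ k - 1) + 2 by omega, pow_add, hl, one_mul]
        simp only [Matrix.diagonal_apply_eq, Matrix.cons_val_zero, Matrix.cons_val_one]
        rw [← pow_add, inv_pow, ← two_mul, hxx]
        field_simp)
      exact Or.inr ⟨g, v, by rw [hg, mul_comm]; exact h, hv⟩
    · have ho : orderOf ((μ ^ b) ^ 2) = 3 ^ k + 1 := by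
        rw [← pow_mul, orderOf_pow_quot (b := 3 ^ k + 1) (by omega) (by rw [hμ, hq2, hb]; ring)]
      have hl : ((μ ^ b : Kˣ) : K) ^ (2 * (3 ^ k + 1)) = 1 := by
        rw [← Units.val_pow_eq_pow_val, pow_mul, ← ho, pow_orderOf_eq_one, Units.val_one]
      obtain ⟨g, v, hg, hv⟩ := witness _ _ ho (by omega) ((1, 0), (0, 0)) (by
        rw [kr_apply]
        set x := ((μ ^ b : Kˣ) : K) with hx
        have hx0 : x ≠ 0 := Units.ne_zero _
        simp only [Matrix.diagonal_apply_eq, Matrix.cons_val_zero, Matrix.cons_val_one]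
        rw [← pow_add, ← two_mul]
        calc x⁻¹ * x ^ 3 * x ^ (2 * 3 ^ k) = x ^ (2 * (3 ^ k + 1)) := by
              rw [show 2 * (3 ^ k + 1) = 2 + 2 * 3 ^ k by ring, pow_add]; field_simp
          _ = 1 := hl)
      exact Or.inr ⟨g, v, by rw [hg, mul_comm]; exact h, hv⟩
    · refine Or.inr ⟨SL2Class.proj unip, Pi.single ((1, 1), (1, 1)) 1, ?_, ?_⟩
      · rw [orderOf_proj_unip 3 hK]; simpa [eExp] using h
      · rw [orderOf_proj_unip 3 hK]
        intro e
        have e' := congrFun e ((0, 0), (0, 0))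
        rw [Finset.sum_apply, Finset.sum_range_succ, Finset.sum_range_succ, Finset.sum_range_one] at e'
        simp only [← map_pow, pkrho_proj, krho_apply, Matrix.mulVec_single_one, Matrix.col_apply,
          unip_pow, kr_apply] at e'
        have h3 : (3 : K) = 0 := by exact_mod_cast CharP.cast_eq_zero K 3
        simp [zero_pow (show (3 : ℕ) ^ k ≠ 0 by omega)] at e'
        have h2 : (2 : K) ≠ 0 := fun h => one_ne_zero (show (1 : K) = 0 by linear_combination h3 - h)
        apply h2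
        have hf : (2 : K) ^ 3 ^ k = 2 := by
          have := map_ofNat (iterateFrobenius K 3 k) 2
          rwa [iterateFrobenius_def] at this
        rw [hf] at e'
        linear_combination e' - 21 * h3

end Cfsg.Agent.IsoSpecS4
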