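import Cfsg.Agent.IsoSpecS4.Twist
import Cfsg.Agent.IsoSpecS4.Kron
import Cfsg.Agent.Isospectral.Basic
import Cfsg.Agent.S3439

/-!
For every `q ≥ 3` other than `3^(2t+1)`, `t ≥ 1`, there are arbitrarily large groups with the
spectrum of `PSp₄(q)`.
-/

set_option autoImplicit false

namespace Cfsg.Agent.IsoSpecS4

theorem unbounded {F : Type*} [Field F] [Fintype F] (h3 : 3 ≤ Fintype.card F)
    (hq : ∀ t : ℕ, 1 ≤ t → Fintype.card F ≠ 3 ^ (2 * t + 1)) (N : ℕ) :
    ∃ (H : Type) (_ : Group H) (_ : Fintype H), N < Fintype.card H ∧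
      Set.range (orderOf : H → ℕ) = Set.range (orderOf : Cfsg.PSp 2 F → ℕ) := by
  classical
  obtain ⟨p, hc⟩ := CharP.exists F
  obtain ⟨⟨k, hk⟩, hp, hF⟩ := FiniteField.card F p
  simp only [PNat.mk_coe] at hF
  haveI := Fact.mk hp
  rw [psp_range p hF hk]
  by_cases h33 : Fintype.card F = 3
  · obtain ⟨H, i1, i2, hs, hspec⟩ := Cfsg.Agent.S3439.result (F := F) h33
    rw [psp_range p hF hk] at hspec
    obtain ⟨rfl, rfl⟩ : p = 3 ∧ k = 1 := by
      rw [hF] at h33
      have h1 := Nat.prime_three.pow_eq_iff.1 h33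
      exact h1
    have hnt : Nontrivial H := by
      obtain ⟨x, hx⟩ : 5 ∈ Set.range (orderOf : H → ℕ) := by
        rw [hspec]
        exact Or.inr (Or.inl (by norm_num))
      refine ⟨⟨x, 1, fun e => ?_⟩⟩
      rw [e, orderOf_one] at hx
      norm_num at hx
    haveI : Group.IsSolvable H := hs
    have := Isospectral.hasElemNormal_of_solvable (K := (⊤ : Subgroup H)) top_ne_bot inferInstance
    obtain ⟨H', j1, j2, hN, hr⟩ := Isospectral.exists_large this N
    exact ⟨H', j1, j2, hN, hr.trans hspec⟩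
  let K := GaloisField p (2 * k)
  letI : Fintype K := Fintype.ofFinite K
  have hK : Fintype.card K = (p ^ k) ^ 2 := by
    rw [← Nat.card_eq_fintype_card, GaloisField.card p (2 * k) (by omega), ← pow_mul, mul_comm]
  by_cases h2 : p = 2
  · subst h2
    exact exists_large_even (K := K) hk hK N
  by_cases hp3 : p = 3
  · subst hp3
    obtain ⟨t, ht | ht⟩ := Nat.even_or_odd' k
    · exact exists_large_three (K := K) (t := t) (by omega) ht hK N
    · exfalso
      rcases Nat.eq_zero_or_pos t with h | h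
      · exact h33 (by rw [hF, ht, h]; norm_num)
      · exact hq t h (by rw [hF, ht])
  have hp2 := hp.two_le
  have hp4 : p ≠ 4 := fun h => by rw [h] at hp; norm_num at hp
  exact exists_large_ge_five (K := K) p (by omega) hk hK N

end Cfsg.Agent.IsoSpecS4
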