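import Cfsg.Agent.IsoSpecS4.Witness
import Cfsg.Agent.SL2Class.PSL

/-!
Elements of `SL₂(K)`, `|K| = q²`: orders in `PSL₂(K)`, elements with trace fixed by `x ↦ x^q`.
-/

set_option autoImplicit false

namespace Cfsg.Agent.IsoSpecS4

open Matrix Polynomial

variable {K : Type*} [Field K]

local notation "SG" => Matrix.SpecialLinearGroup (Fin 2) K
local notation "M2" => Matrix (Fin 2) (Fin 2) K

open SL2Class in
theorem proj_pow_eq_one {g : SG} {n : ℕ} :
    orderOf (proj g) ∣ n ↔ g ^ n = 1 ∨ g ^ n = -1 := by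
  rw [orderOf_proj_dvd_iff, mem_center_cases]

/-- The diagonal element with entries `l, l⁻¹`. -/
def dg (l : Kˣ) : SG :=
  ⟨!![(l : K), 0; 0, ((l⁻¹ : Kˣ) : K)], by simp [Matrix.det_fin_two]⟩

theorem dg_mul (l m : Kˣ) : dg l * dg m = dg (l * m) := by
  refine Subtype.ext ?_
  show (dg l).1 * (dg m).1 = (dg (l * m)).1
  ext i j
  fin_cases i <;> fin_cases j <;> simp [dg, Matrix.mul_apply, Fin.sum_univ_two, mul_comm]

theorem dg_pow (l : Kˣ) (n : ℕ) : dg l ^ n = dg (l ^ n) := by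
  induction n with
  | zero => rw [pow_zero, pow_zero]; refine Subtype.ext ?_; simp [dg, Matrix.one_fin_two]
  | succ n ih => rw [pow_succ, ih, dg_mul, pow_succ]

theorem orderOf_proj_dg (l : Kˣ) : orderOf (SL2Class.proj (dg l)) = orderOf (l ^ 2) := by
  refine orderOf_eq_orderOf_iff.2 fun n => ?_
  rw [← orderOf_dvd_iff_pow_eq_one, proj_pow_eq_one, dg_pow, ← pow_mul, mul_comm 2 n, pow_mul]
  constructor
  · rintro (h | h)
    · have h0 : ((l ^ n : Kˣ) : K) = 1 := by
        simpa [dg] using congrArg (fun g : SG => g.1 0 0) h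
      rw [show l ^ n = 1 from Units.ext h0, one_pow]
    · have h0 : ((l ^ n : Kˣ) : K) = -1 := by
        simpa [dg] using congrArg (fun g : SG => g.1 0 0) h
      rw [show l ^ n = -1 from Units.ext h0, neg_one_sq]
  · intro h
    have hinv : (l ^ n)⁻¹ = l ^ n := inv_eq_of_mul_eq_one_left (by rw [← pow_two, h])
    have h0 : ((l ^ n : Kˣ) : K) * ((l ^ n : Kˣ) : K) = 1 := by rw [← Units.val_mul, ← pow_two, h]; rfl
    rcases mul_self_eq_one_iff.1 h0 with e | e
    · left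
      refine Subtype.ext ?_
      simp [dg, hinv, e, Matrix.one_fin_two, ← inv_pow]
    · right
      refine Subtype.ext ?_
      simp [dg, hinv, e, Matrix.one_fin_two, ← inv_pow]

theorem orderOf_pow_quot {G : Type*} [Monoid G] {x : G} {a b : ℕ} (ha : a ≠ 0) (h : orderOf x = a * b) :
    orderOf (x ^ a) = b := by
  rw [orderOf_pow' x ha, h, Nat.gcd_eq_right (dvd_mul_right a b), Nat.mul_div_cancel_left _ (Nat.pos_of_ne_zero ha)]

theorem cayley (g : SG) : g.1 * g.1 - SL2Class.tr g • g.1 + 1 = (0 : M2) := by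
  rw [SL2Class.g_sq]
  ext i j
  simp [SL2Class.lin]

variable [Fintype K] (p : ℕ) [Fact p.Prime] [CharP K p]

/-- An element whose trace is fixed by `x ↦ x^q` has order dividing `(q ± 1)/d` modulo scalars. -/
theorem small_torus (k : ℕ) (g : SG) (ht : SL2Class.tr g * SL2Class.tr g ≠ 4)
    (hfix : SL2Class.tr g ^ p ^ k = SL2Class.tr g) :
    orderOf (SL2Class.proj g) ∣ (p ^ k - 1) / Nat.gcd 2 (p ^ k - 1) ∨
      orderOf (SL2Class.proj g) ∣ (p ^ k + 1) / Nat.gcd 2 (p ^ k - 1) := by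
  let L := AlgebraicClosure K
  let f := algebraMap K L
  haveI : CharP L p := charP_of_injective_algebraMap f.injective p
  set t := SL2Class.tr g with htdef
  obtain ⟨l, hl, htl⟩ := exists_root_quad (f t)
  have hne : l ≠ l⁻¹ := ne_inv_of_sq hl htl (fun h => ht (f.injective (by rw [map_mul, h, map_ofNat])))
  have hq1 : 1 ≤ p ^ k := Nat.one_le_pow _ _ (Fact.out : p.Prime).pos
  have main : ∀ N, (p ^ k % 2 = 1 → 2 ∣ N) → l ^ N = 1 →
      orderOf (SL2Class.proj g) ∣ N / Nat.gcd 2 (p ^ k - 1) := by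
    intro N hN hlN
    obtain ⟨c, hc, h1, h2⟩ := quot_cases (quot_hyp hq1 hN) hlN
    obtain ⟨c₀, hc₀, rfl⟩ : ∃ c₀ : K, (c₀ = 1 ∨ c₀ = -1) ∧ f c₀ = c := by
      rcases mul_self_eq_one_iff.1 hc with rfl | rfl
      exacts [⟨1, Or.inl rfl, map_one f⟩, ⟨-1, Or.inr rfl, by rw [map_neg, map_one]⟩]
    have hmon : (X ^ 2 - C t * X + 1 : K[X]).Monic := by monicity!
    have hd : (X ^ 2 - C t * X + 1 : K[X]) ∣ X ^ (N / Nat.gcd 2 (p ^ k - 1)) - C c₀ := by
      rw [← Polynomial.map_dvd_map f f.injective hmon]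
      simpa using quad_dvd hl htl hne h1 h2
    obtain ⟨r, hr⟩ := hd
    have h := congrArg (aeval g.1) hr
    simp only [map_mul, map_sub, map_add, map_pow, aeval_X, aeval_C, map_one,
      Algebra.algebraMap_eq_smul_one, smul_mul_assoc, one_mul] at h
    rw [pow_two, htdef, cayley, zero_mul, sub_eq_zero] at h
    rw [proj_pow_eq_one]
    rcases hc₀ with rfl | rfl
    · left; exact Subtype.ext (by rw [Matrix.SpecialLinearGroup.coe_pow, h, one_smul]; rfl)
    · right; exact Subtype.ext (by rw [Matrix.SpecialLinearGroup.coe_pow, h, neg_one_smul]; simp)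
  have hpar : p ^ k % 2 = 1 → 2 ∣ p ^ k - 1 ∧ 2 ∣ p ^ k + 1 := fun h => by omega
  rcases pow_pm (p := p) (k := k) hl htl (by rw [← map_pow, hfix]) with h | h
  · exact Or.inl (main _ (fun ho => (hpar ho).1) h)
  · exact Or.inr (main _ (fun ho => (hpar ho).2) h)

variable {k : ℕ} (hK : Fintype.card K = (p ^ k) ^ 2)
include hK

/-- Every element order of `PSL₂(q²)`. -/
theorem proj_cases (g : SG) : orderOf (SL2Class.proj g) ∣ p ∨
    orderOf (SL2Class.proj g) ∣ ((p ^ k) ^ 2 - 1) / Nat.gcd 2 (p ^ k - 1) ∨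
    orderOf (SL2Class.proj g) ∣ ((p ^ k) ^ 2 + 1) / Nat.gcd 2 (p ^ k - 1) := by
  have h := SL2Class.orderOf_proj_dvd g p
  rwa [hK, gcd_two_sq (Nat.one_le_pow _ _ (Fact.out : p.Prime).pos)] at h

theorem exists_big (ε : ℕ) (hε : ε = (p ^ k) ^ 2 - 1 ∨ ε = (p ^ k) ^ 2 + 1) :
    ∃ g : SG, ε / Nat.gcd 2 (p ^ k - 1) ∣ orderOf (SL2Class.proj g) := by
  obtain ⟨g, hg⟩ := exists_sl_orderOf (F := K) ε (hK.symm ▸ hε)
  refine ⟨g, ?_⟩
  set n := orderOf (SL2Class.proj g)
  have hn := (proj_pow_eq_one (g := g) (n := n)).1 dvd_rfl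
  rcases two_mul_half (Nat.one_le_pow k p (Fact.out : p.Prime).pos) with hd | ⟨ho, hd⟩ <;> rw [hd]
  · rw [Nat.div_one, ← hg]
    apply orderOf_dvd_of_pow_eq_one
    rcases hn with h | h
    · exact h
    · rw [h]
      have hp2 : p = 2 := by
        by_contra hne
        have hodd : Odd (p ^ k) := ((Fact.out : p.Prime).odd_of_ne_two hne).pow
        rw [Nat.gcd_eq_left (by obtain ⟨j, hj⟩ := hodd; omega)] at hd
        norm_num at hd
      subst hp2
      exact Subtype.ext (by simp [CharTwo.neg_eq])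
  · have hsq : ((p ^ k) ^ 2) % 2 = 1 := by rw [Nat.pow_mod, ho]
    obtain ⟨j, rfl⟩ : 2 ∣ ε := by rcases hε with rfl | rfl <;> omega
    rw [Nat.mul_div_cancel_left j two_pos]
    refine Nat.dvd_of_mul_dvd_mul_left two_pos ?_
    rw [← hg]
    apply orderOf_dvd_of_pow_eq_one
    rw [mul_comm, pow_mul]
    rcases hn with h | h <;> rw [h] <;> refine Subtype.ext ?_ <;> simp

theorem orderOf_proj_unip : orderOf (SL2Class.proj (unip (F := K))) = p := by
  refine orderOf_eq_prime ?_ ?_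
  · rw [← orderOf_dvd_iff_pow_eq_one, proj_pow_eq_one]
    left
    refine Subtype.ext ?_
    rw [unip_pow, CharP.cast_eq_zero K p, Matrix.SpecialLinearGroup.coe_one, Matrix.one_fin_two]
  · intro h
    rcases SL2Class.mem_center_cases.1 (SL2Class.proj_eq_one.1 h) with e | e <;>
      simpa [unip] using congrArg (fun g : SG => g.1 0 1) e

theorem exists_gen : ∃ μ : Kˣ, orderOf μ = (p ^ k) ^ 2 - 1 := by
  obtain ⟨μ, hμ⟩ := IsCyclic.exists_generator (α := Kˣ)
  exact ⟨μ, by rw [orderOf_eq_card_of_forall_mem_zpowers hμ, Nat.card_units, Nat.card_eq_fintype_card, hK]⟩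

end Cfsg.Agent.IsoSpecS4
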