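import Cfsg.Agent.IsoSpecS4.Herm

/-!
Groups isospectral to `PSp₄(q)` for `q` of characteristic at least 5: the Hermitian module extended
by `PSL₂(q²)` with a field automorphism.
-/

set_option autoImplicit false

namespace Cfsg.Agent.IsoSpecS4

open Matrix

variable {K : Type} [Field K]

local notation "SG" => Matrix.SpecialLinearGroup (Fin 2) K
local notation "M2" => Matrix (Fin 2) (Fin 2) K

variable (σ : Conj K)

/-- The conjugate of an element of `SL₂`. -/
def cg : SG →* SG := Matrix.SpecialLinearGroup.map σ.toHom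

theorem cg_val (g : SG) : (cg σ g).1 = g.1.map σ.toHom := rfl

theorem cg_cg (g : SG) : cg σ (cg σ g) = g := Subtype.ext (by
  ext i j; rw [cg_val, cg_val]; simp [σ.inv])

/-- `M ↦ -M̄`. -/
def flip : AddMonoid.End (herm σ) :=
  AddMonoidHom.mk' (fun M => ⟨-(M.1.map σ.toHom), by
      rw [herm_mem]
      have h := (herm_mem σ).1 M.2
      ext i j
      have h' := congrFun (congrFun h i) j
      simp only [ct, Matrix.transpose_apply, Matrix.map_apply] at h'
      simp only [ct, Matrix.transpose_apply, Matrix.map_apply, Matrix.neg_apply, map_neg, σ.inv, neg_inj]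
      rw [← h', σ.inv]⟩)
    fun M N => Subtype.ext (by ext i j; simp; ring)

theorem flip_apply (M : herm σ) : (flip σ M).1 = -(M.1.map σ.toHom) := rfl

theorem flip_flip : flip σ * flip σ = 1 := AddMonoidHom.ext fun M => Subtype.ext (by
  show -((-(M.1.map σ.toHom)).map σ.toHom) = M.1
  ext i j; simp [σ.inv])

theorem flip_comm (g : SG) : flip σ * hrho σ g = hrho σ (cg σ g) * flip σ := AddMonoidHom.ext fun M => Subtype.ext (by
  show -((g.1 * M.1 * ct σ g.1).map σ.toHom) = (g.1.map σ.toHom) * -(M.1.map σ.toHom) * ct σ (g.1.map σ.toHom)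
  rw [Matrix.map_mul, Matrix.map_mul, mul_neg, neg_mul]
  congr 2)

/-- `flip` as an automorphism. -/
def flipU : (AddMonoid.End (herm σ))ˣ := ⟨flip σ, flip σ, flip_flip σ, flip_flip σ⟩

/-- The action as automorphisms. -/
def urho : SG →* (AddMonoid.End (herm σ))ˣ := (hrho σ).toHomUnits

theorem urho_val (g : SG) : (urho σ g : AddMonoid.End (herm σ)) = hrho σ g := rfl

theorem flipU_comm (g : SG) : flipU σ * urho σ g = urho σ (cg σ g) * flipU σ :=
  Units.ext (flip_comm σ g)

theorem flipU_sq : flipU σ * flipU σ = 1 := Units.ext (flip_flip σ)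

/-- `SL₂/±1` extended by the field automorphism. -/
def ext2 : Subgroup (AddMonoid.End (herm σ))ˣ where
  carrier := {T | ∃ g : SG, T = urho σ g ∨ T = urho σ g * flipU σ}
  one_mem' := ⟨1, Or.inl (map_one _).symm⟩
  mul_mem' := by
    rintro a b ⟨g, ha⟩ ⟨h, hb⟩
    rcases ha with rfl | rfl <;> rcases hb with rfl | rfl
    · exact ⟨g * h, Or.inl (map_mul _ _ _).symm⟩
    · exact ⟨g * h, Or.inr (by rw [map_mul, mul_assoc])⟩
    · exact ⟨g * cg σ h, Or.inr (by rw [mul_assoc, flipU_comm, ← mul_assoc, map_mul])⟩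
    · exact ⟨g * cg σ h, Or.inl (by
        rw [map_mul, mul_assoc, ← mul_assoc (flipU σ), flipU_comm, mul_assoc (urho σ (cg σ h)), flipU_sq,
          mul_one])⟩
  inv_mem' := by
    rintro a ⟨g, rfl | rfl⟩
    · exact ⟨g⁻¹, Or.inl (map_inv _ _).symm⟩
    · refine ⟨cg σ g⁻¹, Or.inr ?_⟩
      rw [_root_.mul_inv_rev, inv_eq_of_mul_eq_one_right (flipU_sq σ), ← map_inv, flipU_comm]

/-- The module of `ext2`. -/
def trho : ext2 σ →* AddMonoid.End (herm σ) := (Units.coeHom _).comp (ext2 σ).subtype

theorem trho_apply (x : ext2 σ) : trho σ x = (x.1 : AddMonoid.End (herm σ)) := rfl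

/-- The kernel consists of the scalars. -/
theorem center_of_fix (g : SG) (h : ∀ M : herm σ, hrho σ g M = M) : g ∈ Subgroup.center SG := by
  have e := fun M => congrArg Subtype.val (h M)
  have h1 := e (hdiag σ 1 0 (map_one _) (map_zero _))
  have h2 := e (hdiag σ 0 1 (map_zero _) (map_one _))
  have h3 := e (hoff σ 1)
  rw [hrho_apply] at h1 h2 h3
  have a11 := congrFun (congrFun h1 1) 1
  have a00 := congrFun (congrFun h1 0) 0
  have b00 := congrFun (congrFun h2 0) 0
  have c01 := congrFun (congrFun h3 0) 1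
  simp [hdiag, ct, Matrix.mul_apply, Fin.sum_univ_two, Matrix.vecMul, dotProduct] at a11 a00 b00
  simp [hoff, ct, Matrix.mul_apply, Fin.sum_univ_two, Matrix.vecMul, dotProduct] at c01
  have hd := SL2Class.det_eq g
  simp only [a11, b00, mul_zero, zero_mul, sub_zero, add_zero, zero_add] at hd c01
  have hdet : g.1 0 0 * g.1 1 1 = 1 := hd
  have h0 : g.1 0 0 ≠ 0 := left_ne_zero_of_mul_eq_one hdet
  have hs : σ.toHom (g.1 1 1) = g.1 1 1 := mul_left_cancel₀ h0 (c01.trans hdet.symm)
  have hs0 : σ.toHom (g.1 0 0) = g.1 0 0 := by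
    have := congrArg σ.toHom hdet
    rw [map_mul, map_one, hs] at this
    exact mul_right_cancel₀ (right_ne_zero_of_mul_eq_one hdet) (this.trans hdet.symm)
  rw [hs0] at a00
  rw [SL2Class.mem_center_cases]
  have e11 : g.1 1 1 = g.1 0 0 := mul_left_cancel₀ h0 (hdet.trans a00.symm)
  rcases mul_self_eq_one_iff.1 a00 with e0 | e0
  · left
    refine Subtype.ext ?_
    ext i j
    fin_cases i <;> fin_cases j <;> simp [e11, e0, a11, b00]
  · right
    refine Subtype.ext ?_
    ext i j
    fin_cases i <;> fin_cases j <;> simp [e11, e0, a11, b00]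

theorem urho_eq_one {g : SG} : urho σ g = 1 ↔ g ∈ Subgroup.center SG := by
  refine ⟨fun h => center_of_fix σ g fun M => ?_, fun h => Units.ext (hrho_center σ h)⟩
  have := DFunLike.congr_fun (congrArg Units.val h) M
  exact this

theorem urho_pow_eq_one {g : SG} {n : ℕ} : urho σ g ^ n = 1 ↔ orderOf (SL2Class.proj g) ∣ n := by
  rw [← map_pow, urho_eq_one, SL2Class.orderOf_proj_dvd_iff]

theorem flip_ne (hσ : ∃ b, σ.toHom b ≠ b) (h : SG) : urho σ h ≠ flipU σ := by
  intro hh
  have e : ∀ M : herm σ, h.1 * M.1 * ct σ h.1 = -(M.1.map σ.toHom) := fun M =>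
    congrArg Subtype.val (DFunLike.congr_fun (congrArg Units.val hh) M)
  have a11 := congrFun (congrFun (e (hdiag σ 1 0 (map_one _) (map_zero _))) 1) 1
  have b00 := congrFun (congrFun (e (hdiag σ 0 1 (map_zero _) (map_one _))) 0) 0
  simp [hdiag, ct, Matrix.mul_apply, Fin.sum_univ_two, Matrix.vecMul, dotProduct] at a11 b00
  obtain ⟨b, hb⟩ := hσ
  have c01 := fun b => congrFun (congrFun (e (hoff σ b)) 0) 1
  have c1 := c01 1
  have cb := c01 b
  simp [hoff, ct, Matrix.mul_apply, Fin.sum_univ_two, Matrix.vecMul, dotProduct, a11, b00] at c1 cb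
  exact hb (by linear_combination cb - b * c1)

/-- The square of an element outside `PSL₂`. -/
theorem outer_sq (g : SG) : (urho σ g * flipU σ) * (urho σ g * flipU σ) = urho σ (g * cg σ g) := by
  rw [map_mul, mul_assoc, ← mul_assoc (flipU σ), flipU_comm, mul_assoc (urho σ (cg σ g)), flipU_sq, mul_one]

theorem orderOf_outer (hσ : ∃ b, σ.toHom b ≠ b) (g : SG) :
    orderOf (urho σ g * flipU σ) = 2 * orderOf (SL2Class.proj (g * cg σ g)) := by
  set x := urho σ g * flipU σ
  have hx : ∀ j, x ^ (2 * j) = urho σ ((g * cg σ g) ^ j) := fun j => by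
    rw [pow_mul, pow_two, outer_sq, map_pow]
  refine Nat.dvd_antisymm (orderOf_dvd_of_pow_eq_one ?_) ?_
  · rw [hx, map_pow, urho_pow_eq_one]
  · set n := orderOf x
    have hn : x ^ n = 1 := pow_orderOf_eq_one x
    obtain ⟨j, hj | hj⟩ := Nat.even_or_odd' n
    · rw [hj, hx, map_pow, urho_pow_eq_one] at hn
      rw [hj]
      exact Nat.mul_dvd_mul_left 2 hn
    · rw [hj, pow_succ, hx] at hn
      refine absurd ?_ (flip_ne σ hσ ((g * cg σ g) ^ j * g)⁻¹)
      rw [map_inv, inv_eq_iff_mul_eq_one, map_mul]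
      simpa [x, mul_assoc] using hn

theorem tr_outer (g : SG) : σ.toHom (SL2Class.tr (g * cg σ g)) = SL2Class.tr (g * cg σ g) := by
  simp [SL2Class.tr, cg_val, Matrix.mul_apply, Fin.sum_univ_two, σ.inv]
  ring

/-- An element with trace fixed and square four has vanishing norms in characteristic `≥ 5`. -/
theorem sum_unipotent (p : ℕ) [Fact p.Prime] [CharP K p] (hp : 5 ≤ p) (g : SG)
    (h4 : SL2Class.tr g * SL2Class.tr g = 4) (M : herm σ) :
    ∑ i ∈ Finset.range p, hrho σ (g ^ i) M = 0 := by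
  obtain ⟨ε, hε, ht⟩ : ∃ ε : K, (ε = 1 ∨ ε = -1) ∧ SL2Class.tr g = 2 * ε := by
    rcases mul_self_eq_mul_self_iff.1 (show SL2Class.tr g * SL2Class.tr g = 2 * 2 by linear_combination h4) with h | h
    exacts [⟨1, Or.inl rfl, by linear_combination h⟩, ⟨-1, Or.inr rfl, by linear_combination h⟩]
  have hεε : ε * ε = 1 := by rcases hε with rfl | rfl <;> ring
  have hεσ : σ.toHom ε = ε := by rcases hε with rfl | rfl <;> simp
  set n : M2 := ε • g.1 - 1 with hn
  have hnn : n * n = 0 := by
    have h1 := cayley g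
    rw [ht] at h1
    calc n * n = g.1 * g.1 - (2 * ε) • g.1 + 1 := by
          rw [hn, sub_mul, mul_sub, mul_one, one_mul, smul_mul_smul_comm, hεε, one_smul]
          module
      _ = 0 := h1
  have hg : g.1 = ε • (1 + n) := by rw [hn, add_sub_cancel, smul_smul, hεε, one_smul]
  have hpow : ∀ i : ℕ, (g ^ i).1 = ε ^ i • (1 + (i : K) • n) := by
    intro i
    induction i with
    | zero => simp
    | succ i ih =>
      rw [pow_succ, Matrix.SpecialLinearGroup.coe_mul, ih, hg, smul_mul_smul_comm, ← pow_succ]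
      congr 1
      rw [add_mul, one_mul, mul_add, mul_one, smul_mul_assoc, hnn, smul_zero, add_zero,
        Nat.cast_succ, add_smul, one_smul]
      abel
  have hterm : ∀ i : ℕ, (hrho σ (g ^ i) M).1 =
      M.1 + (i : K) • (n * M.1 + M.1 * ct σ n) + ((i : K) ^ 2) • (n * M.1 * ct σ n) := by
    intro i
    have hct : ct σ (ε ^ i • (1 + (i : K) • n)) = ε ^ i • (1 + (i : K) • ct σ n) := by
      ext a b
      by_cases hab : a = b <;> simp [ct, hab, Ne.symm, hεσ, eq_comm] <;> ring
    rw [hrho_apply, hpow, hct, smul_mul_assoc, smul_mul_smul_comm, ← mul_pow, hεε, one_pow, one_smul]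
    simp only [add_mul, one_mul, mul_add, mul_one, smul_mul_assoc, mul_smul_comm]
    module
  have h2 : ∀ m : ℕ, (2 : K) * ∑ i ∈ Finset.range m, (i : K) = (m : K) * ((m : K) - 1) := by
    intro m; induction m with
    | zero => simp
    | succ m ih => rw [Finset.sum_range_succ, mul_add, ih]; push_cast; ring
  have h6 : ∀ m : ℕ, (6 : K) * ∑ i ∈ Finset.range m, (i : K) ^ 2 = (m : K) * ((m : K) - 1) * (2 * (m : K) - 1) := by
    intro m; induction m with
    | zero => simp
    | succ m ih => rw [Finset.sum_range_succ, mul_add, ih]; push_cast; ring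
  have hsmall : ∀ a : ℕ, 0 < a → a < p → (a : K) ≠ 0 := fun a ha hap h =>
    absurd (Nat.le_of_dvd ha ((CharP.cast_eq_zero_iff K p a).1 h)) (not_le.2 hap)
  have hp0 : (p : K) = 0 := CharP.cast_eq_zero K p
  have hne2 : (2 : K) ≠ 0 := by exact_mod_cast hsmall 2 two_pos (by omega)
  have hne6 : (6 : K) ≠ 0 := by
    have h3 : (3 : K) ≠ 0 := by exact_mod_cast hsmall 3 (by omega) (by omega)
    rw [show (6 : K) = 2 * 3 by norm_num]; exact mul_ne_zero hne2 h3
  have s1 : ∑ i ∈ Finset.range p, (i : K) = 0 :=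
    (mul_eq_zero.1 ((h2 p).trans (by rw [hp0, zero_mul]))).resolve_left hne2
  have s2 : ∑ i ∈ Finset.range p, (i : K) ^ 2 = 0 :=
    (mul_eq_zero.1 ((h6 p).trans (by rw [hp0, zero_mul, zero_mul]))).resolve_left hne6
  refine Subtype.ext ?_
  rw [AddSubgroup.val_finset_sum, Finset.sum_congr rfl fun i _ => hterm i, Finset.sum_add_distrib,
    Finset.sum_add_distrib, Finset.sum_const, Finset.card_range, ← Finset.sum_smul, ← Finset.sum_smul,
    s1, s2, zero_smul, zero_smul, add_zero, add_zero, ← Nat.cast_smul_eq_nsmul K, hp0, zero_smul]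
  rfl

theorem sum_range_two_mul {G : Type*} [AddCommMonoid G] (f : ℕ → G) (n : ℕ) :
    ∑ i ∈ Finset.range (2 * n), f i = ∑ j ∈ Finset.range n, (f (2 * j) + f (2 * j + 1)) := by
  induction n with
  | zero => simp
  | succ n ih =>
    rw [show 2 * (n + 1) = 2 * n + 1 + 1 by ring, Finset.sum_range_succ, Finset.sum_range_succ, ih,
      Finset.sum_range_succ, add_assoc]

variable [Fintype K] (p : ℕ) [Fact p.Prime] [CharP K p] {k : ℕ}

set_option maxHeartbeats 1000000 in
/-- The case of characteristic at least 5. -/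
theorem exists_large_ge_five (hp : 5 ≤ p) (hk : 1 ≤ k) (hK : Fintype.card K = (p ^ k) ^ 2) (N : ℕ) :
    ∃ (H : Type) (_ : Group H) (_ : Fintype H), N < Fintype.card H ∧
      Set.range (orderOf : H → ℕ) = spec p (p ^ k) := by
  have hpp := (Fact.out : p.Prime)
  have hpo : Odd p := hpp.odd_of_ne_two (by omega)
  set q := p ^ k with hq
  have hqo : q % 2 = 1 := Nat.odd_iff.1 hpo.pow
  have hq1 : 1 ≤ q := Nat.one_le_pow _ _ hpp.pos
  have hd : Nat.gcd 2 (q - 1) = 2 := Nat.gcd_eq_left (by omega)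
  let c := frobConj p hK
  haveI : Finite (AddMonoid.End (herm c)) :=
    Finite.of_injective (fun f : herm c →+ herm c => (f : herm c → herm c)) DFunLike.coe_injective
  obtain ⟨μ, hμ⟩ := exists_gen p hK
  have hq2 : q ^ 2 - 1 = (q + 1) * (q - 1) := by rw [← Nat.sq_sub_sq, one_pow]
  obtain ⟨a, ha⟩ : ∃ a, q + 1 = 2 * a := ⟨(q + 1) / 2, by omega⟩
  obtain ⟨b, hb⟩ : ∃ b, q - 1 = 2 * b := ⟨(q - 1) / 2, by omega⟩
  have hpq : p ∣ q := dvd_pow_self p (by omega)
  have hq0 : q ≠ 0 := by omega
  have hqodd : Odd q := Nat.odd_iff.2 hqo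
  have hq5 : 5 ≤ q := le_trans hp (Nat.le_of_dvd hq1 hpq)
  have hndm : ¬ p ∣ q - 1 := fun h => by
    have := (Nat.dvd_sub hpq h)
    rw [show q - (q - 1) = 1 by omega] at this
    exact hpp.one_lt.ne' (Nat.dvd_one.1 this)
  have hndp : ¬ p ∣ q + 1 := fun h => hpp.one_lt.ne' (Nat.dvd_one.1 ((Nat.dvd_add_iff_right hpq).2 h))
  have hp0 : 2 * p ∣ p * (q - 1) := by rw [mul_comm 2 p]; exact Nat.mul_dvd_mul_left p (Dvd.intro b hb.symm)
  have hσ : ∃ x, c.toHom x ≠ x := ⟨μ, fun h => by
    rw [frobConj_apply] at h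
    have h' : μ ^ (q - 1) = 1 := by
      refine Units.ext (mul_right_cancel₀ μ.ne_zero ?_)
      rw [Units.val_pow_eq_pow_val, ← pow_succ, Nat.sub_add_cancel hq1, h, Units.val_one, one_mul]
    have h5 : 5 ≤ q := le_trans hp (Nat.le_of_dvd hq1 hpq)
    have h1 := orderOf_dvd_of_pow_eq_one h'
    rw [hμ, ← hq, hq2] at h1
    have h2 := Nat.le_of_dvd (by omega) h1
    have : 2 * (q - 1) ≤ (q + 1) * (q - 1) := Nat.mul_le_mul_right _ (by omega)
    omega⟩
  have hin : ∀ (x : ext2 c) (g : SG), x.1 = urho c g → orderOf x = orderOf (SL2Class.proj g) := by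
    intro x g h
    rw [← Subgroup.orderOf_coe, h]
    refine orderOf_eq_orderOf_iff.2 fun n => ?_
    rw [urho_pow_eq_one, orderOf_dvd_iff_pow_eq_one]
  have hout : ∀ (x : ext2 c) (g : SG), x.1 = urho c g * flipU c →
      orderOf x = 2 * orderOf (SL2Class.proj (g * cg c g)) := by
    intro x g h
    rw [← Subgroup.orderOf_coe, h, orderOf_outer c hσ]
  have hsmall : ∀ g : SG, SL2Class.tr g * SL2Class.tr g ≠ 4 →
      c.toHom (SL2Class.tr g) = SL2Class.tr g →
      orderOf (SL2Class.proj g) ∣ b ∨ orderOf (SL2Class.proj g) ∣ a := by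
    intro g h4 hf
    rw [frobConj_apply] at hf
    rcases small_torus p k g h4 hf with h | h <;> rw [← hq, hd] at h
    · left; rwa [hb, Nat.mul_div_cancel_left b two_pos] at h
    · right; rwa [ha, Nat.mul_div_cancel_left a two_pos] at h
  have hunip : ∀ g : SG, SL2Class.tr g * SL2Class.tr g = 4 → orderOf (SL2Class.proj g) = 1 ∨
      orderOf (SL2Class.proj g) = p := fun g h4 =>
    (Nat.dvd_prime hpp).1 (SL2Class.orderOf_proj_dvd_iff.2 (SL2Class.pow_tr_eq_four h4 p))
  refine exists_large_of_rep (P := ext2 c) (V := herm c) p hpp (nsmul_herm c p)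
    ⟨hoff c 1, fun h => by simpa [hoff] using congrArg (fun M : herm c => M.1 0 1) h⟩
    (trho c) (spec p q) (fun n m => mem_spec_of_dvd) ?_ ?_ ?_ N
  · rintro ⟨x, g, hx | hx⟩
    · rw [hin _ g hx]
      rcases proj_cases p hK g with h | h | h
      · exact mem_spec_of_dvd h (Or.inr (Or.inr (Or.inl (dvd_mul_right p _))))
      · exact Or.inl h
      · exact Or.inr (Or.inl h)
    · rw [hout _ g hx]
      by_cases h4 : SL2Class.tr (g * cg c g) * SL2Class.tr (g * cg c g) = 4
      · refine Or.inr (Or.inr (Or.inl (dvd_trans ?_ hp0)))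
        rcases hunip _ h4 with h | h <;> rw [h]
        exact Nat.mul_dvd_mul_left 2 (one_dvd p)
      · rcases hsmall _ h4 (tr_outer c g) with h | h
        · exact Or.inr (Or.inr (Or.inl ((hb ▸ Nat.mul_dvd_mul_left 2 h).trans (dvd_mul_left _ p))))
        · exact Or.inr (Or.inr (Or.inr (Or.inl ((ha ▸ Nat.mul_dvd_mul_left 2 h).trans (dvd_mul_left _ p)))))
  · rintro ⟨x, g, hx | hx⟩ v hv
    · have ho := hin ⟨x, g, Or.inl hx⟩ g hx
      rw [ho] at hv ⊢
      set n := orderOf (SL2Class.proj g) with hn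
      have heq : ∀ i : ℕ, trho c (⟨x, g, Or.inl hx⟩ ^ i) = hrho c (g ^ i) := fun i => by
        rw [trho_apply, SubmonoidClass.coe_pow, ← urho_val, map_pow]
        show ((x ^ i : (AddMonoid.End (herm c))ˣ) : AddMonoid.End (herm c)) = _
        rw [hx]
      simp only [heq] at hv
      by_cases h4 : SL2Class.tr g * SL2Class.tr g = 4
      · rcases hunip g h4 with h | h
        · rw [hn, h, one_mul]; exact Or.inr (Or.inr (Or.inl (dvd_mul_right p _)))
        · rw [hn, h] at hv; exact absurd (sum_unipotent c p hp g h4 v) hv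
      · have hfix : hrho c g (∑ i ∈ Finset.range n, hrho c (g ^ i) v) =
            ∑ i ∈ Finset.range n, hrho c (g ^ i) v := by
          have h1 := sum_fixed (prho c) (SL2Class.proj g) v (n := n) (pow_orderOf_eq_one _)
          exact h1
        rcases hsmall g h4 (tr_fixed c g hv hfix) with h | h
        · exact Or.inr (Or.inr (Or.inl (by rw [mul_comm n p]; exact Nat.mul_dvd_mul_left p (h.trans (Dvd.intro_left 2 hb.symm)))))
        · exact Or.inr (Or.inr (Or.inr (Or.inl (by rw [mul_comm n p]; exact Nat.mul_dvd_mul_left p (h.trans (Dvd.intro_left 2 ha.symm))))))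
    · have ho := hout ⟨x, g, Or.inr hx⟩ g hx
      rw [ho] at hv ⊢
      by_cases h4 : SL2Class.tr (g * cg c g) * SL2Class.tr (g * cg c g) = 4
      · rcases hunip _ h4 with h | h <;> rw [h] at hv ⊢
        · exact Or.inr (Or.inr (Or.inl (by rw [mul_one]; exact hp0)))
        · exfalso
          apply hv
          set X : ext2 c := ⟨x, g, Or.inr hx⟩
          have heven : ∀ j : ℕ, trho c (X ^ (2 * j)) = hrho c ((g * cg c g) ^ j) := fun j => by
            rw [trho_apply, SubmonoidClass.coe_pow, pow_mul, ← urho_val, map_pow, ← outer_sq c g, ← pow_two]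
            show (((x ^ 2) ^ j : (AddMonoid.End (herm c))ˣ) : AddMonoid.End (herm c)) = _
            rw [hx]
          have hodd : ∀ j : ℕ, trho c (X ^ (2 * j + 1)) v = hrho c ((g * cg c g) ^ j) (trho c X v) := fun j => by
            rw [pow_succ, map_mul, heven]; rfl
          rw [sum_range_two_mul, Finset.sum_congr rfl (g := fun j => hrho c ((g * cg c g) ^ j) (v + trho c X v))
            fun j _ => by rw [heven, hodd, map_add]]
          exact sum_unipotent c p hp _ h4 _
      · rcases hsmall _ h4 (tr_outer c g) with h | h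
        · exact Or.inr (Or.inr (Or.inl (by rw [mul_comm _ p]; exact Nat.mul_dvd_mul_left p (hb ▸ Nat.mul_dvd_mul_left 2 h))))
        · exact Or.inr (Or.inr (Or.inr (Or.inl (by rw [mul_comm _ p]; exact Nat.mul_dvd_mul_left p (ha ▸ Nat.mul_dvd_mul_left 2 h)))))
  · have outer : ∀ (g : SG) (n : ℕ), 2 * orderOf (SL2Class.proj (g * cg c g)) = n → ¬ p ∣ n →
        ∀ M : herm c, M ≠ 0 → g.1 * (-(M.1.map c.toHom)) * ct c g.1 = M.1 →
        ∃ (X : ext2 c) (v : herm c), n * p ∣ orderOf X * p ∧
          ∑ i ∈ Finset.range (orderOf X), trho c (X ^ i) v ≠ 0 := by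
      intro g n hn hpn M hM hfix
      let X : ext2 c := ⟨urho c g * flipU c, g, Or.inr rfl⟩
      refine ⟨X, M, ?_, ?_⟩
      · rw [hout X g rfl, hn]
      · have hX : trho c X M = M := Subtype.ext (show g.1 * (-(M.1.map c.toHom)) * ct c g.1 = M.1 from hfix)
        rw [sum_of_fixed (trho c) X hX, hout X g rfl, hn]
        exact nsmul_ne_zero_of_not_dvd c p hpn hM
    have hμq : ∀ m, ((μ : K) ^ m) = ((μ ^ m : Kˣ) : K) := fun m => (Units.val_pow_eq_pow_val μ m).symm
    intro s hs
    rcases hs with h | h | h | h | h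
    · obtain ⟨g, hg⟩ := exists_big p hK _ (Or.inl rfl)
      exact Or.inl ⟨(⟨urho c g, g, Or.inl rfl⟩ : ext2 c), by rw [hin ⟨urho c g, g, Or.inl rfl⟩ g rfl]; exact h.trans hg⟩
    · obtain ⟨g, hg⟩ := exists_big p hK _ (Or.inr rfl)
      exact Or.inl ⟨(⟨urho c g, g, Or.inl rfl⟩ : ext2 c), by rw [hin ⟨urho c g, g, Or.inl rfl⟩ g rfl]; exact h.trans hg⟩
    · -- `p (q - 1)`
      have hy : dg μ * cg c (dg μ) = dg (μ ^ (q + 1)) := by
        rw [pow_succ', ← dg_mul]
        congr 1
        refine Subtype.ext ?_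
        rw [cg_val]
        ext i j
        fin_cases i <;> fin_cases j <;> simp [dg, c, frobConj_apply, ← hq, inv_pow, zero_pow hq0]
      have hn : 2 * orderOf (SL2Class.proj (dg μ * cg c (dg μ))) = q - 1 := by
        rw [hy, orderOf_proj_dg, ← pow_mul, orderOf_pow_quot (b := b) (by omega)
          (by rw [hμ, hq2, hb]; ring), hb]
      have hηq : (μ : K) ^ (a * q) = -(μ : K) ^ a := by
        have e : μ ^ ((q ^ 2 - 1) / 2) = -1 := by
          have ho : orderOf (μ ^ ((q ^ 2 - 1) / 2)) = 2 := by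
            refine orderOf_pow_quot ?_ ?_
            · have : 2 ≤ q ^ 2 - 1 := by rw [hq2]; calc 2 ≤ (q + 1) * 1 := by omega
                                                      _ ≤ (q + 1) * (q - 1) := Nat.mul_le_mul_left _ (by omega)
              omega
            · rw [hμ, hq2, hb, mul_comm 2 b, ← mul_assoc, Nat.mul_div_cancel _ two_pos]
          have h2 := pow_orderOf_eq_one (μ ^ ((q ^ 2 - 1) / 2))
          rw [ho, pow_two] at h2
          have h2' : ((μ ^ ((q ^ 2 - 1) / 2) : Kˣ) : K) * ((μ ^ ((q ^ 2 - 1) / 2) : Kˣ) : K) = 1 := by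
            rw [← Units.val_mul, h2, Units.val_one]
          rcases mul_self_eq_one_iff.1 h2' with e1 | e1
          · exfalso
            rw [show μ ^ ((q ^ 2 - 1) / 2) = 1 from Units.ext e1, orderOf_one] at ho
            norm_num at ho
          · exact Units.ext e1
        have e' : a * q = (q ^ 2 - 1) / 2 + a := by
          rw [hq2, ha, mul_assoc, Nat.mul_div_cancel_left _ two_pos]
          conv_lhs => rw [show q = (q - 1) + 1 by omega]
          rw [mul_add, mul_one]
        rw [e', pow_add, hμq, e, Units.val_neg, Units.val_one, neg_one_mul]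
      obtain ⟨X, v, h1, h2⟩ := outer (dg μ) _ hn hndm (hoff c ((μ : K) * (μ : K) ^ a))
        (fun e => by simpa [hoff] using congrArg (fun M : herm c => M.1 0 1) e) (by
          have hμ0 : (μ : K) ≠ 0 := μ.ne_zero
          have hcc := c.inv (μ : K)
          simp only [c, frobConj_apply, ← hq] at hcc
          ext i j
          fin_cases i <;> fin_cases j <;>
            simp [hoff, ct, dg, Matrix.mul_apply, Fin.sum_univ_two, c, frobConj_apply, ← hq, inv_pow, mul_pow, zero_pow hq0, hμ0,
              ← pow_mul, hηq, Matrix.vecMul, dotProduct] <;>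
            first
              | done
              | (rw [hqodd.neg_pow, mul_pow, hcc, ← pow_mul, hηq]; field_simp)
              | (field_simp; done)
              | (field_simp; ring)
              | ring)
      exact Or.inr ⟨X, v, (h.trans (dvd_of_eq (mul_comm _ _))).trans h1, h2⟩
    · -- `p (q + 1)`
      let g : SG := ⟨!![0, (μ : K); -((μ⁻¹ : Kˣ) : K), 0], by simp [Matrix.det_fin_two]⟩
      have hμ0 : (μ : K) ≠ 0 := μ.ne_zero
      have hy : g * cg c g = dg (-(μ * (μ ^ q)⁻¹)) := by
        refine Subtype.ext ?_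
        rw [Matrix.SpecialLinearGroup.coe_mul, cg_val]
        ext i j
        fin_cases i <;> fin_cases j <;>
          simp [g, dg, c, frobConj_apply, ← hq, Matrix.mul_apply, Fin.sum_univ_two, inv_pow, Matrix.vecMul,
            dotProduct, zero_pow hq0] <;>
          first
            | done
            | (rw [← mul_pow, one_div, inv_mul_cancel₀ hμ0, one_pow])
            | (rw [hqodd.neg_pow]; field_simp; done)
            | (rw [hqodd.neg_pow]; field_simp; rw [← mul_pow, one_div, inv_mul_cancel₀ hμ0, one_pow])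
            | (field_simp; done)
            | (field_simp; rw [← mul_pow, one_div, inv_mul_cancel₀ hμ0, one_pow])
      have hn : 2 * orderOf (SL2Class.proj (g * cg c g)) = q + 1 := by
        have e : (-(μ * (μ ^ q)⁻¹)) ^ 2 = ((μ ^ (q - 1)) ^ 2)⁻¹ := by
          rw [neg_sq, ← inv_pow]
          congr 1
          rw [eq_inv_iff_mul_eq_one]
          calc μ * (μ ^ q)⁻¹ * μ ^ (q - 1) = μ ^ (q - 1) * μ * (μ ^ q)⁻¹ := by
                rw [mul_comm (μ * _), mul_assoc]
            _ = 1 := by rw [← pow_succ, Nat.sub_add_cancel hq1, mul_inv_cancel]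
        rw [hy, orderOf_proj_dg, e, orderOf_inv, ← pow_mul, orderOf_pow_quot (b := a) (by omega)
          (by rw [hμ, hq2, ha]; ring), ha]
      have hN : c.toHom (-((μ : K) * (μ : K) ^ q)) = -((μ : K) * (μ : K) ^ q) := by
        have hcc := c.inv (μ : K)
        simp only [c, frobConj_apply, ← hq] at hcc
        rw [map_neg, map_mul, frobConj_apply, frobConj_apply, ← hq, hcc, mul_comm]
      obtain ⟨X, v, h1, h2⟩ := outer g _ hn hndp (hdiag c _ 1 hN (map_one _))
        (fun e => by simpa [hdiag] using congrArg (fun M : herm c => M.1 1 1) e) (by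
          have hcc := c.inv (μ : K)
          simp only [c, frobConj_apply, ← hq] at hcc
          ext i j
          fin_cases i <;> fin_cases j <;>
            simp [g, hdiag, ct, c, frobConj_apply, ← hq, Matrix.mul_apply, Fin.sum_univ_two, Matrix.vecMul,
              dotProduct, inv_pow, hqodd.neg_pow, mul_pow, hcc,
              zero_pow hq0] <;>
            field_simp)
      exact Or.inr ⟨X, v, (h.trans (dvd_of_eq (mul_comm _ _))).trans h1, h2⟩
    · refine Or.inl ⟨⟨urho c unip, unip, Or.inl rfl⟩, ?_⟩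
      rw [hin ⟨urho c unip, unip, Or.inl rfl⟩ unip rfl, orderOf_proj_unip p hK]
      simpa [eExp, show p ≠ 2 by omega, show p ≠ 3 by omega] using h

end Cfsg.Agent.IsoSpecS4
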