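import Cfsg.Agent.IsoSpecS4.Bound
import Cfsg.Agent.GroupSub.SpFourModel
import Cfsg.Agent.MatModule.LargeSylow
import Cfsg.Agent.SL2Class.PSL

/-!
The element orders of `PSp₄(q)` are exactly the spectrum.
-/

set_option autoImplicit false

namespace Cfsg.Agent.IsoSpecS4

open Matrix

variable {F : Type*} [Field F]

/-- `Sp₂ → SL₂`. -/
noncomputable def spOne : Matrix.symplecticGroup (Fin 1) F →* Matrix.SpecialLinearGroup (Fin 2) F where
  toFun A := ⟨Matrix.reindexAlgEquiv F F (finSumFinEquiv (m := 1) (n := 1)) A.1, by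
    rw [Matrix.det_reindexAlgEquiv]; exact SymplecticGroup.det_eq_one A.2⟩
  map_one' := Subtype.ext (map_one (Matrix.reindexAlgEquiv F F (finSumFinEquiv (m := 1) (n := 1))))
  map_mul' A B := Subtype.ext (map_mul (Matrix.reindexAlgEquiv F F (finSumFinEquiv (m := 1) (n := 1))) A.1 B.1)

theorem spOne_injective : Function.Injective (spOne (F := F)) := fun A B h =>
  Subtype.ext ((Matrix.reindexAlgEquiv F F (finSumFinEquiv (m := 1) (n := 1))).injective (congrArg Subtype.val h))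

/-- An upper unitriangular element. -/
def unip : Matrix.SpecialLinearGroup (Fin 2) F := ⟨!![1, 1; 0, 1], by simp [Matrix.det_fin_two]⟩

theorem unip_pow (n : ℕ) : (unip (F := F) ^ n).1 = !![1, (n : F); 0, 1] := by
  induction n with
  | zero => simp [Matrix.one_fin_two]
  | succ n ih =>
    rw [pow_succ, Matrix.SpecialLinearGroup.coe_mul, ih]
    ext i j
    fin_cases i <;> fin_cases j <;> simp [unip, Matrix.mul_apply, Fin.sum_univ_two, add_comm]

variable [Fintype F] (p : ℕ) [Fact p.Prime] [CharP F p]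

theorem exists_sl_orderOf (ε : ℕ) (hε : ε = Fintype.card F - 1 ∨ ε = Fintype.card F + 1) :
    ∃ x : Matrix.SpecialLinearGroup (Fin 2) F, orderOf x = ε := by
  suffices ∃ x : Matrix.symplecticGroup (Fin 1) F, orderOf x = ε by
    obtain ⟨x, hx⟩ := this
    exact ⟨spOne x, (orderOf_injective spOne spOne_injective x).trans hx⟩
  rcases hε with rfl | rfl
  · obtain ⟨g, hg⟩ := LargeSylow.exists_gl_orderOf (F := F) rfl one_pos (k := Fintype.card F - 1) (by rw [pow_one])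
    obtain ⟨φ, hφ⟩ := LargeSylow.exists_gl_to_sp (F := F) 1
    exact ⟨φ g, (orderOf_injective φ hφ g).trans hg⟩
  · exact LargeSylow.exists_sp_orderOf (F := F) rfl one_pos (by rw [pow_one])

/-- The centre costs at most a factor `gcd(2, q-1)`. -/
theorem exists_psp_of_sp {k : ℕ} (hF : Fintype.card F = p ^ k) (x : Matrix.symplecticGroup (Fin 2) F)
    (h : (p ^ k) % 2 = 1 → 2 ∣ orderOf x) :
    ∃ y : Cfsg.PSp 2 F, orderOf x / Nat.gcd 2 (p ^ k - 1) ∣ orderOf y := by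
  refine ⟨QuotientGroup.mk x, ?_⟩
  set n := orderOf (QuotientGroup.mk x : Cfsg.PSp 2 F)
  have hn : x ^ n ∈ Subgroup.center (Matrix.symplecticGroup (Fin 2) F) := by
    rw [← QuotientGroup.eq_one_iff, QuotientGroup.mk_pow, pow_orderOf_eq_one]
  obtain ⟨c, hc, hxn⟩ := (Spectrum.center_iff (by norm_num) _).1 hn
  rcases two_mul_half (Nat.one_le_pow k p (Fact.out : p.Prime).pos) with hd | ⟨ho, hd⟩ <;> rw [hd]
  · rw [Nat.div_one]
    have hc1 : c = 1 := by
      rcases mul_self_eq_one_iff.1 hc with h1 | h1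
      · exact h1
      · rw [h1]
        have hp2 : p = 2 := by
          by_contra hne
          have hodd : Odd (p ^ k) := ((Fact.out : p.Prime).odd_of_ne_two hne).pow
          rw [Nat.gcd_eq_left (by obtain ⟨j, hj⟩ := hodd; omega)] at hd
          norm_num at hd
        subst hp2
        exact CharTwo.neg_eq 1
    apply orderOf_dvd_of_pow_eq_one
    refine Subtype.ext ?_
    rw [hxn, hc1, one_smul]; rfl
  · obtain ⟨j, hj⟩ := h ho
    rw [hj, Nat.mul_div_cancel_left j two_pos]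
    have h2 : x ^ (2 * n) = 1 := by
      rw [mul_comm, pow_mul]
      refine Subtype.ext ?_
      rw [SubmonoidClass.coe_pow, hxn, smul_pow, one_pow, pow_two, hc, one_smul]; rfl
    exact Nat.dvd_of_mul_dvd_mul_left two_pos (hj ▸ orderOf_dvd_of_pow_eq_one h2)

theorem exists_psp_mixed {k : ℕ} (hF : Fintype.card F = p ^ k) (hk : 1 ≤ k) (ε : ℕ)
    (hε : ε = p ^ k - 1 ∨ ε = p ^ k + 1) : ∃ y : Cfsg.PSp 2 F, p * ε ∣ orderOf y := by
  have hp := (Fact.out : p.Prime)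
  obtain ⟨b, hb⟩ := exists_sl_orderOf (F := F) ε (hF.symm ▸ hε)
  refine ⟨QuotientGroup.mk (GroupSub.SpFour.D unip b), ?_⟩
  set n := orderOf (QuotientGroup.mk (GroupSub.SpFour.D unip b) : Cfsg.PSp 2 F)
  have hn : (GroupSub.SpFour.D (F := F) unip b) ^ n ∈ Subgroup.center (Matrix.symplecticGroup (Fin 2) F) := by
    rw [← QuotientGroup.eq_one_iff, QuotientGroup.mk_pow, pow_orderOf_eq_one]
  obtain ⟨c, hc, hxn⟩ := (Spectrum.center_iff (by norm_num) _).1 hn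
  have e : (GroupSub.SpFour.D (F := F) unip b) ^ n = GroupSub.SpFour.D (unip ^ n) (b ^ n) :=
    (map_pow (GroupSub.SpFour.Dhom (F := F)) (unip, b) n).symm
  rw [e, GroupSub.SpFour.coe_D, ← mul_one c, mul_smul] at hxn
  have e' : GroupSub.SpFour.bd ((unip ^ n).1 : Matrix (Fin 2) (Fin 2) F) (b ^ n).1 =
      GroupSub.SpFour.bd (c • 1) (c • 1) := by
    rw [← GroupSub.SpFour.bd_smul, GroupSub.SpFour.bd_one, hxn, one_smul]
  obtain ⟨h1, h2⟩ := GroupSub.SpFour.bd_inj e'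
  rw [unip_pow] at h1
  have hc1 : 1 = c := by simpa using congrFun (congrFun h1 0) 0
  have hn0 : (n : F) = 0 := by simpa using congrFun (congrFun h1 0) 1
  have hb1 : b ^ n = 1 := Subtype.ext (by rw [h2, ← hc1, one_smul]; rfl)
  refine Nat.Coprime.mul_dvd_of_dvd_of_dvd ?_ ((CharP.cast_eq_zero_iff F p n).1 hn0)
    (hb ▸ orderOf_dvd_of_pow_eq_one hb1)
  refine hp.coprime_iff_not_dvd.2 fun hd => ?_
  have hpq : p ∣ p ^ k := dvd_pow_self p (by omega)
  have h1' : p ∣ 1 := by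
    have hq := Nat.one_le_pow k p hp.pos
    rcases hε with rfl | rfl
    · exact (Nat.dvd_add_iff_right hd).2 (by rw [Nat.sub_add_cancel hq]; exact hpq)
    · exact (Nat.dvd_add_iff_right hpq).2 hd
  exact hp.one_lt.ne' (Nat.dvd_one.1 h1')

theorem exists_psp_prime_power {ℓ : ℕ} [Fact ℓ.Prime] [CharP F ℓ]
    (M : Matrix (Fin 2 ⊕ Fin 2) (Fin 2 ⊕ Fin 2) (ZMod ℓ))
    (hM : M * Matrix.J (Fin 2) (ZMod ℓ) * M.transpose = Matrix.J (Fin 2) (ZMod ℓ))
    (h1 : M ^ ℓ ≠ 1) (h2 : M ^ ℓ ≠ -1) (h3 : M ^ (ℓ ^ 2) = 1 ∨ M ^ (ℓ ^ 2) = -1) :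
    ∃ y : Cfsg.PSp 2 F, orderOf y = ℓ ^ 2 := by
  let φ : ZMod ℓ →+* F := ZMod.castHom dvd_rfl F
  have hφ : Function.Injective φ := φ.injective
  have key : ∀ d, (QuotientGroup.mk (⟨M.map φ, SymplecticGroup.map_mem (SymplecticGroup.mem_iff.2 hM) φ⟩ :
      Matrix.symplecticGroup (Fin 2) F) : Cfsg.PSp 2 F) ^ d = 1 ↔ (M ^ d = 1 ∨ M ^ d = -1) := by
    intro d
    rw [← QuotientGroup.mk_pow, QuotientGroup.eq_one_iff, Spectrum.center_iff (by norm_num),
      SubmonoidClass.coe_pow]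
    show (∃ c : F, c * c = 1 ∧ (φ.mapMatrix M) ^ d = c • 1) ↔ _
    rw [← map_pow]
    constructor
    · rintro ⟨c, hc, h⟩
      rcases mul_self_eq_one_iff.1 hc with rfl | rfl
      · exact Or.inl (Matrix.map_injective hφ (by simpa using h))
      · exact Or.inr (Matrix.map_injective hφ (by simpa [Matrix.map_neg] using h))
    · rintro (h | h)
      · exact ⟨1, one_mul 1, by rw [h, map_one, one_smul]⟩
      · exact ⟨-1, by simp, by rw [h, map_neg, map_one, neg_one_smul]⟩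
  refine ⟨_, orderOf_eq_prime_pow (p := ℓ) (n := 1) ?_ ((key _).2 h3)⟩
  rw [pow_one]
  exact fun h => ((key _).1 h).elim h1 h2

/-- A regular unipotent element of `Sp₄(2)`. -/
def four1 : Matrix (Fin 2 ⊕ Fin 2) (Fin 2 ⊕ Fin 2) (ZMod 2) :=
  Matrix.fromBlocks !![1, 1; 0, 1] !![1, 1; 0, 1] 0 !![1, 0; 1, 1]

theorem four1_facts : four1 * Matrix.J (Fin 2) (ZMod 2) * four1.transpose = Matrix.J (Fin 2) (ZMod 2) ∧
    four1 ^ 2 ≠ 1 ∧ four1 ^ 2 ≠ -1 ∧ (four1 ^ (2 ^ 2) = 1 ∨ four1 ^ (2 ^ 2) = -1) := by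
  decide +kernel

theorem nine1_facts : SpecU42.nine1 * Matrix.J (Fin 2) (ZMod 3) * SpecU42.nine1.transpose = Matrix.J (Fin 2) (ZMod 3) ∧
    SpecU42.nine1 ^ 3 ≠ 1 ∧ SpecU42.nine1 ^ 3 ≠ -1 ∧
    (SpecU42.nine1 ^ (3 ^ 2) = 1 ∨ SpecU42.nine1 ^ (3 ^ 2) = -1) := by
  decide +kernel

theorem psp_range {k : ℕ} (hF : Fintype.card F = p ^ k) (hk : 1 ≤ k) :
    Set.range (orderOf : Cfsg.PSp 2 F → ℕ) = spec p (p ^ k) := by
  refine Set.Subset.antisymm (Set.range_subset_iff.2 (psp_mem_spec p hF)) ?_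
  have down : ∀ {N n : ℕ}, (∃ y : Cfsg.PSp 2 F, N ∣ orderOf y) → n ∣ N →
      n ∈ Set.range (orderOf : Cfsg.PSp 2 F → ℕ) := fun {N n} h hn => by
    obtain ⟨y, hy⟩ := h
    exact Spectrum.exists_orderOf_eq_of_dvd (orderOf_pos y).ne' (hn.trans hy)
  have hq1 : 1 ≤ p ^ k := Nat.one_le_pow _ _ (Fact.out : p.Prime).pos
  have hsq : ∀ q : ℕ, q % 2 = 1 → 2 ∣ q ^ 2 - 1 ∧ 2 ∣ q ^ 2 + 1 := fun q hq => by
    have : q ^ 2 % 2 = 1 := by rw [Nat.pow_mod, hq]
    omega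
  have minus : ∃ y : Cfsg.PSp 2 F, ((p ^ k) ^ 2 - 1) / Nat.gcd 2 (p ^ k - 1) ∣ orderOf y := by
    obtain ⟨g, hg⟩ := LargeSylow.exists_gl_orderOf (F := F) rfl two_pos (k := Fintype.card F ^ 2 - 1) dvd_rfl
    obtain ⟨φ, hφ⟩ := LargeSylow.exists_gl_to_sp (F := F) 2
    have ho : orderOf (φ g) = (p ^ k) ^ 2 - 1 := by rw [orderOf_injective φ hφ g, hg, hF]
    obtain ⟨y, hy⟩ := exists_psp_of_sp p hF (φ g) (fun h => ho.symm ▸ (hsq _ h).1)
    exact ⟨y, ho ▸ hy⟩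
  have plus : ∃ y : Cfsg.PSp 2 F, ((p ^ k) ^ 2 + 1) / Nat.gcd 2 (p ^ k - 1) ∣ orderOf y := by
    obtain ⟨g, hg⟩ := LargeSylow.exists_sp_orderOf (F := F) (h := 2) (k := Fintype.card F ^ 2 + 1) rfl two_pos dvd_rfl
    have ho : orderOf g = (p ^ k) ^ 2 + 1 := by rw [hg, hF]
    obtain ⟨y, hy⟩ := exists_psp_of_sp p hF g (fun h => ho.symm ▸ (hsq _ h).2)
    exact ⟨y, ho ▸ hy⟩
  rintro n (h | h | h | h | h)
  · exact down minus h
  · exact down plus h
  · exact down (exists_psp_mixed p hF hk _ (Or.inl rfl)) h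
  · exact down (exists_psp_mixed p hF hk _ (Or.inr rfl)) h
  · unfold eExp at h
    split_ifs at h with h2 h3
    · subst h2
      obtain ⟨y, hy⟩ := exists_psp_prime_power (F := F) four1 four1_facts.1
        four1_facts.2.1 four1_facts.2.2.1 four1_facts.2.2.2
      exact down ⟨y, by rw [hy]; norm_num⟩ h
    · subst h3
      obtain ⟨y, hy⟩ := exists_psp_prime_power (F := F) SpecU42.nine1 nine1_facts.1
        nine1_facts.2.1 nine1_facts.2.2.1 nine1_facts.2.2.2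
      exact down ⟨y, by rw [hy]; norm_num⟩ h
    · exact down (exists_psp_mixed p hF hk _ (Or.inr rfl)) (h.trans (dvd_mul_right p _))

end Cfsg.Agent.IsoSpecS4
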